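import Groth.Agent.Lib.QCAlgSub.Sections
import Groth.Agent.Lib.QCoh.Pushforward
import Groth.Agent.Lib.CohBasics.Closure
import Groth.Agent.Lib.TensorMod.LocFree
import Groth.Prelude.Def_PerfAux

/-!
# The resolution property along affine morphisms
-/

set_option autoImplicit false
universe u

open CategoryTheory CategoryTheory.Limits AlgebraicGeometry Opposite TopologicalSpace

namespace Groth.Agent.Lib.ResDescend36.Affine

open Groth.Agent.Lib Groth.Agent.Lib.Modules.SubStalk Groth.Agent.Lib.Modules.StalkModule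

noncomputable section

variable {X Y : Scheme.{u}}

/-- A finite type submodule through finitely many families of sections over affine opens. -/
theorem exists_family_finset [CompactSpace Y] [QuasiSeparatedSpace Y] (M : Y.Modules) [M.IsQuasicoherent]
    (s : Finset Y.affineOpens) (n : Y.affineOpens → ℕ) (t : ∀ V : Y.affineOpens, Fin (n V) → Γ(M, V.1)) :
    ∃ S : Family M, IsLocFG S ⊤ ∧ ∀ V ∈ s, ∀ i, t V i ∈ secs S V.1 := by
  classical
  induction s using Finset.induction with
  | empty => exact ⟨fun _ => ⊥, QCAlgSub.Sections.isLocFG_bot ⊤, by simp⟩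
  | @insert V s hV ih =>
    obtain ⟨S, hS, hmem⟩ := ih
    obtain ⟨T, hT, hTmem⟩ := QCAlgSub.Sections.exists_family_qcqs V.2 (t V)
    refine ⟨fun x => S x ⊔ T x, QCAlgSub.Sections.isLocFG_sup_family hS hT, fun W hW i => ?_⟩
    rcases Finset.mem_insert.1 hW with rfl | hW
    · exact fun y hy => Submodule.mem_sup_right (hTmem i y hy)
    · exact fun y hy => Submodule.mem_sup_left (hmem W hW i y hy)

/-- The resolution property passes up affine morphisms. -/
theorem hasResolutionProperty (f : X ⟶ Y) [IsAffineHom f] [CompactSpace Y] [QuasiSeparatedSpace Y]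
    (hY : PerfAux.HasResolutionProperty Y) : PerfAux.HasResolutionProperty X := by
  intro F hFq hFt
  haveI : F.IsQuasicoherent := hFq
  let M := (Scheme.Modules.pushforward f).obj F
  haveI : M.IsQuasicoherent := QCoh.Pushforward.isQCoh_pushforward f
  have hfin : ∀ V : Y.affineOpens, ∃ (n : ℕ) (t : Fin n → Γ(F, f ⁻¹ᵁ V.1)),
      Submodule.span Γ(X, f ⁻¹ᵁ V.1) (Set.range t) = ⊤ := fun V => by
    haveI := CohBasics.Closure.finite_sections (M := F) ⟨hFq, hFt⟩ (V.2.preimage f)
    exact Module.Finite.exists_fin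
  choose n t ht using hfin
  obtain ⟨s, hs, hcov⟩ := isCompact_and_isOpen_iff_finite_and_eq_biUnion_affineOpens.mp
    (⟨isCompact_univ, isOpen_univ⟩ : IsCompact (Set.univ : Set Y) ∧ IsOpen (Set.univ : Set Y))
  obtain ⟨S, hS, hmem⟩ := exists_family_finset M hs.toFinset n t
  obtain ⟨E, π, hE, hπ⟩ := hY (subMod S) (isQCoh_subMod hS) (isFT_subMod hS)
  let adj := Scheme.Modules.pullbackPushforwardAdjunction f
  let c : (Scheme.Modules.pullback f).obj (subMod S) ⟶ F :=
    (adj.homEquiv _ _).symm (ι S)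
  haveI : Epi c := by
    refine (Modules.Stalk.epi_iff_stalk_surjective c).2 fun x (v : F.presheaf.stalk x) => ?_
    obtain ⟨V, hV, hxV⟩ := Set.mem_iUnion₂.mp (hcov ▸ Set.mem_univ (f x))
    have htop := CohBasics.Affine.germ_span_eq_top (V.2.preimage f) _ (ht V) hxV
    suffices hr : Submodule.span (X.presheaf.stalk x)
        (F.presheaf.germ (f ⁻¹ᵁ V.1) x hxV '' Set.range (t V)) ≤ LinearMap.range (stalkMapₗ c x) by
      obtain ⟨w, hw⟩ := hr (htop.ge (Submodule.mem_top (x := v)))
      exact ⟨w, hw⟩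
    rw [Submodule.span_le]
    rintro _ ⟨_, ⟨i, rfl⟩, rfl⟩
    obtain ⟨g, hg⟩ := exists_ι_app (hmem V (hs.mem_toFinset.2 hV) i)
    refine ⟨((Scheme.Modules.pullback f).obj (subMod S)).presheaf.germ (f ⁻¹ᵁ V.1) x hxV
      ((adj.unit.app (subMod S)).app V.1 g), ?_⟩
    refine (stalkMapₗ_germ c hxV _).trans ?_
    congr 1
    refine Eq.trans ?_ hg
    exact congrArg (fun φ : subMod S ⟶ M => φ.app V.1 g)
      ((adj.homEquiv_unit _ _ c).symm.trans ((adj.homEquiv _ _).apply_symm_apply (ι S)))
  exact ⟨_, (Scheme.Modules.pullback f).map π ≫ c,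
    TensorMod.LocFree.isFinLocFree_pullback f hE, epi_comp _ _⟩

end

end Groth.Agent.Lib.ResDescend36.Affine
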