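import Groth.Agent.Lib.ResDescend36.Ample
import Groth.Agent.Lib.ResDescend36.Affine
import Groth.Agent.Lib.Modules.SupportOps
import Groth.Agent.Lib.Modules.Local
import Groth.Prelude.Def_MoreMor
import Groth.Prelude.Def_LCI2

/-!
# The resolution property from ample families and relatively ample modules
-/

set_option autoImplicit false
universe u

open CategoryTheory CategoryTheory.Limits AlgebraicGeometry Opposite TopologicalSpace

namespace Groth.Agent.Lib.ResDescend36.Family

open Groth.Agent.Lib Groth.Agent.Lib.Modules.StalkModule Groth.Agent.Lib.Modules.SubStalk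
open Groth.Agent.Lib.Ample.GG (gm memTop GenAt gm_rs mem_of_tmul)
open Groth.Agent.Lib.TensorMod.Dual (rs)
open Groth.Agent.Lib.TensorMod.Gen (one)

noncomputable section

variable {X Y : Scheme.{u}}

lemma stalkMapₗ_comp_surjective {A B C : X.Modules} (f : A ⟶ B) (g : B ⟶ C) {x : X}
    (hf : Function.Surjective (stalkMapₗ f x)) (hg : Function.Surjective (stalkMapₗ g x)) :
    Function.Surjective (stalkMapₗ (f ≫ g) x) := fun c => by
  obtain ⟨b, rfl⟩ := hg c
  obtain ⟨a, rfl⟩ := hf b
  obtain ⟨U, hx, s, rfl⟩ := TopCat.Presheaf.exists_germ_eq A.presheaf a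
  refine ⟨A.presheaf.germ U x hx s, ?_⟩
  erw [stalkMapₗ_germ, stalkMapₗ_germ, stalkMapₗ_germ]
  rfl

lemma surjective_of_comp {A B C : X.Modules} (f : A ⟶ B) (g : B ⟶ C) {x : X}
    (h : Function.Surjective (stalkMapₗ (f ≫ g) x)) : Function.Surjective (stalkMapₗ g x) := fun c => by
  obtain ⟨a, rfl⟩ := h c
  obtain ⟨U, hx, s, rfl⟩ := TopCat.Presheaf.exists_germ_eq A.presheaf a
  refine ⟨stalkMapₗ f x (A.presheaf.germ U x hx s), ?_⟩
  erw [stalkMapₗ_germ, stalkMapₗ_germ, stalkMapₗ_germ]
  rfl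

/-- A coherent module generated by global sections on an affine open is there a quotient of a
finite free module. -/
theorem exists_freeMod_on (M : X.Modules) (hM : Coh.IsCoh M) {G : X.Opens} (hG : IsAffineOpen G)
    (h : ∀ x ∈ G, GenAt M x) :
    ∃ (k : ℕ) (p : FlatMod.freeMod X k ⟶ M), ∀ x ∈ G, Function.Surjective (stalkMapₗ p x) := by
  classical
  haveI := hM.1
  haveI := CohBasics.Closure.finite_sections hM hG
  have hspan : Submodule.span Γ(X, G) (Set.range fun t => rs M (le_top : G ≤ ⊤) t) = ⊤ := by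
    refine CohBasics.Affine.span_eq_top_of_germ hG _ fun x hx => ?_
    rw [← Set.range_comp]
    refine Eq.trans ?_ (h x hx)
    congr 1
    exact congrArg Set.range (funext fun t => gm_rs le_top hx t)
  obtain ⟨T, hT⟩ := Submodule.fg_span_iff_fg_span_finset_subset (Set.range fun t => rs M (le_top : G ≤ ⊤) t) |>.1
    (hspan.symm ▸ Module.Finite.fg_top)
  choose g hg using fun a : T => hT.1 a.2
  let p : FlatMod.freeMod X T.card ⟶ M :=
    Modules.Free.freeHom fun i => g (T.equivFin.symm i)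
  refine ⟨T.card, p, fun x hx (v : M.presheaf.stalk x) => ?_⟩
  have htop := CohBasics.Affine.germ_span_eq_top hG _ (hT.2.symm.trans hspan) hx
  have hr : Submodule.span (X.presheaf.stalk x) (M.presheaf.germ G x hx '' (T : Set Γ(M, G))) ≤
      LinearMap.range (stalkMapₗ p x) := by
    rw [Submodule.span_le]
    rintro _ ⟨t, ht, rfl⟩
    let i := T.equivFin ⟨t, ht⟩
    refine ⟨gm (memTop x) (Modules.Free.gen X i), (stalkMapₗ_germ p (memTop x) _).trans ?_⟩
    rw [Modules.Free.freeHom_app_gen, Equiv.symm_apply_apply]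
    exact (gm_rs le_top hx _).symm.trans (congrArg (gm hx) (hg ⟨t, ht⟩))
  exact hr (htop.ge (Submodule.mem_top (x := v)))

/-- Tensoring keeps surjectivity on a stalk. -/
theorem surjective_tmap {A M : X.Modules} (p : A ⟶ M) (D : X.Modules) {x : X}
    (hp : Function.Surjective (stalkMapₗ p x)) :
    Function.Surjective (stalkMapₗ (TensorMod.Basic.tmap p (𝟙 D)) x) := by
  rw [← LinearMap.range_eq_top]
  refine mem_of_tmul _ fun W hxW a b => ?_
  obtain ⟨w, hw⟩ := hp (gm hxW a)
  obtain ⟨W', hxW', a', rfl⟩ := TopCat.Presheaf.exists_germ_eq A.presheaf w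
  erw [stalkMapₗ_germ] at hw
  obtain ⟨V, hxV, i, j, hV⟩ := TopCat.Presheaf.germ_eq M.presheaf x hxW' hxW _ _ hw
  refine ⟨gm hxV (TensorMod.Free.pairM (𝟙 _) (rs A i.le a') (rs D j.le b)), ?_⟩
  refine (stalkMapₗ_germ _ hxV _).trans ?_
  rw [← TensorMod.Free.pairM_comp, Category.id_comp, TensorMod.Free.pairM_tmap,
    ← gm_rs j.le hxV, Ample.GG.rs_pairM]
  refine congrArg (gm hxV) (congrArg₂ (TensorMod.Free.pairM (𝟙 _)) ?_ rfl)
  refine Eq.trans ?_ hV
  exact (QCoh.Localizing.res_app p i.le a').symm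

/-- One member of an ample family resolves a coherent module on its affine locus. -/
theorem exists_on_genLocus [CompactSpace X] [QuasiSeparatedSpace X] {M : X.Modules}
    (hM : PicF.IsInvertible M) (F : X.Modules) (hF : Coh.IsCoh F) (s : Coh.structureModule X ⟶ M)
    (hs : IsAffineOpen (CohB1.genLocus M s)) :
    ∃ (E : X.Modules) (π : E ⟶ F), FlatMod.IsFinLocFree E ∧
      ∀ x ∈ CohB1.genLocus M s, Function.Surjective (stalkMapₗ π x) := by
  obtain ⟨n, hn⟩ := (Ample.GG.eventually_genAt hM F hF s hs).exists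
  have hP := TensorMod.Invertible.isInvertible_tensorPow hM n
  let P := CohB1.tensorPow M n
  haveI := TensorMod.QCohInv.isQCoh_of_isInvertible hP
  haveI : F.IsQuasicoherent := hF.1
  haveI : SheafOfModules.IsFiniteType (R := X.ringCatSheaf) F := hF.2
  haveI : SheafOfModules.IsFiniteType (R := X.ringCatSheaf) P :=
    (Ample.GG.isCoh_of_isInvertible hP).2
  have hcoh : Coh.IsCoh (CohB1.tensorMod F P) :=
    ⟨TensorMod.TensorQCoh.isQCoh_tensorMod _ _, TensorMod.TensorQCoh.isFiniteType_tensorMod _ _⟩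
  obtain ⟨k, p, hp⟩ := exists_freeMod_on _ hcoh hs hn
  let D := TensorMod.Dual.dual P
  let e := TensorMod.Basic.assoc F P D ≪≫ TensorMod.Basic.tensorIso (Iso.refl F)
      (TensorMod.Invertible.tensorDualIso hP) ≪≫ TensorMod.Basic.rightUnit F
  refine ⟨CohB1.tensorMod (FlatMod.freeMod X k) D, TensorMod.Basic.tmap p (𝟙 D) ≫ e.hom,
    TensorMod.LocFree.isFinLocFree_tensorMod (TensorMod.LocFree.of_rank (TensorMod.LocFree.isFinLocFree_freeMod X k))
      (TensorMod.LocFree.of_rank (TensorMod.LocFree.of_isInvertible (TensorMod.Invertible.isInvertible_dual hP))),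
    fun x hx => stalkMapₗ_comp_surjective _ _ (surjective_tmap p D (hp x hx)) ?_⟩
  exact (Modules.Stalk.epi_iff_stalk_surjective e.hom).1 inferInstance x

/-- A scheme with an ample family of invertible modules has the resolution property. -/
theorem hasResolutionProperty_of_family [CompactSpace X] [QuasiSeparatedSpace X]
    (h : ∀ x : X, ∃ (L : X.Modules) (n : ℕ) (s : Coh.structureModule X ⟶ CohB1.tensorPow L n),
      PicF.IsInvertible L ∧ x ∈ CohB1.genLocus (CohB1.tensorPow L n) s ∧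
        IsAffineOpen (CohB1.genLocus (CohB1.tensorPow L n) s)) :
    PerfAux.HasResolutionProperty X := by
  classical
  intro F hFq hFt
  choose L n s hL hx hs using h
  choose E π hE hπ using fun x => exists_on_genLocus
    (TensorMod.Invertible.isInvertible_tensorPow (hL x) (n x)) F ⟨hFq, hFt⟩ (s x) (hs x)
  obtain ⟨t, ht⟩ := isCompact_univ.elim_finite_subcover (fun x => (CohB1.genLocus _ (s x) : Set X))
    (fun x => (CohB1.genLocus _ (s x)).isOpen) fun x _ => Set.mem_iUnion.2 ⟨x, hx x⟩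
  have key : ∀ u : Finset X, ∃ (E' : X.Modules) (π' : E' ⟶ F), FlatMod.IsFinLocFree E' ∧
      ∀ a ∈ u, ∀ x ∈ CohB1.genLocus _ (s a), Function.Surjective (stalkMapₗ π' x) := by
    intro u
    induction u using Finset.induction with
    | empty => exact ⟨FlatMod.freeMod X 0, Sigma.desc fun i => i.elim0,
        TensorMod.LocFree.of_rank (TensorMod.LocFree.isFinLocFree_freeMod X 0), by simp⟩
    | @insert a u ha ih =>
      obtain ⟨E', π', hE', hπ'⟩ := ih
      refine ⟨E a ⨿ E', coprod.desc (π a) π', TensorMod.LocFree.isFinLocFree_biprod (hE a) hE',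
        fun b hb x hx => ?_⟩
      rcases Finset.mem_insert.1 hb with rfl | hb
      · exact surjective_of_comp coprod.inl _ (by rw [coprod.inl_desc]; exact hπ b x hx)
      · exact surjective_of_comp coprod.inr _ (by rw [coprod.inr_desc]; exact hπ' b hb x hx)
  obtain ⟨E', π', hE', hπ'⟩ := key t
  refine ⟨E', π', hE', (Modules.Stalk.epi_iff_stalk_surjective π').2 fun x => ?_⟩
  obtain ⟨a, ha, hxa⟩ := Set.mem_iUnion₂.1 (ht (Set.mem_univ x))
  exact hπ' a ha x hxa

/-- A scheme with an ample family is quasi-separated, and has the resolution property. -/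
theorem hasResolutionProperty_of_hasAmpleFamily (hX : MoreMor.HasAmpleFamily X) :
    PerfAux.HasResolutionProperty X := by
  haveI := hX.1
  have h := hX.2
  choose L n s hL hn hx hs using h
  haveI : QuasiSeparatedSpace X := by
    refine QuasiSeparatedSpace.of_isOpenCover (U := fun x => CohB1.genLocus _ (s x))
      (top_le_iff.1 fun x _ => Opens.mem_iSup.2 ⟨x, hx x⟩) (fun x => ?_) fun x => ?_
    · haveI := Ample.GenLocus.isAffineHom_genLocus (TensorMod.Invertible.isInvertible_tensorPow (hL x) (n x)) (s x)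
      exact IsRetrocompact_iff_isSpectralMap_subtypeVal.mpr (CohB1.genLocus _ (s x)).ι.isSpectralMap
    · exact (hs x).isQuasiSeparated
  exact hasResolutionProperty_of_family fun x => ⟨L x, n x, s x, hL x, hx x, hs x⟩

/-- A quotient of a pulled back finite locally free module, from generation over affines of the base. -/
theorem exists_epi_pullback' (f : X ⟶ Y) [QuasiCompact f] [QuasiSeparated f] [CompactSpace Y]
    [QuasiSeparatedSpace Y] (hY : PerfAux.HasResolutionProperty Y) (M : X.Modules) [M.IsQuasicoherent]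
    (s : Finset Y.affineOpens) (hcov : (⋃ V ∈ s, ((V : Y.Opens) : Set Y)) = Set.univ)
    (h : ∀ V ∈ s, ∃ (n : ℕ)
      (p : FlatMod.freeMod (f ⁻¹ᵁ V.1 : Scheme.{u}) n ⟶ M.restrict (f ⁻¹ᵁ V.1).ι), Epi p) :
    ∃ (E : X.Modules) (π : E ⟶ M), FlatMod.IsFinLocFree E ∧ Epi π := by
  let P := (Scheme.Modules.pushforward f).obj M
  haveI : P.IsQuasicoherent := QCoh.Pushforward.isQCoh_pushforward f
  classical
  have h' : ∀ V : Y.affineOpens, ∃ (n : ℕ)
      (p : FlatMod.freeMod (f ⁻¹ᵁ V.1 : Scheme.{u}) n ⟶ M.restrict (f ⁻¹ᵁ V.1).ι), V ∈ s → Epi p :=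
    fun V => if hV : V ∈ s then (h V hV).imp fun n hn => hn.imp fun p hp _ => hp
      else ⟨0, 0, fun h => absurd h hV⟩
  choose n p hp using h'
  have hle : ∀ V : Y.affineOpens, f ⁻¹ᵁ V.1 ≤ (f ⁻¹ᵁ V.1).ι ''ᵁ ⊤ := fun V =>
    (Scheme.Opens.ι_image_top _).ge
  have hge : ∀ V : Y.affineOpens, (f ⁻¹ᵁ V.1).ι ''ᵁ ⊤ ≤ f ⁻¹ᵁ V.1 := fun V =>
    (Scheme.Opens.ι_image_top _).le
  let t : ∀ V : Y.affineOpens, Fin (n V) → Γ(P, V.1) := fun V i =>
    M.presheaf.map (homOfLE (hle V)).op ((p V).app ⊤ (Modules.Free.gen _ i))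
  obtain ⟨S, hS, hmem⟩ := ResDescend36.Affine.exists_family_finset P s n t
  obtain ⟨E, π, hE, hπ⟩ := hY (subMod S) (isQCoh_subMod hS) (isFT_subMod hS)
  let adj := Scheme.Modules.pullbackPushforwardAdjunction f
  let c : (Scheme.Modules.pullback f).obj (subMod S) ⟶ M := (adj.homEquiv _ _).symm (ι S)
  haveI : Epi c := by
    refine Modules.Local.epi_of_restrict (U := fun V : s => f ⁻¹ᵁ V.1.1) ?_ c fun V => ?_
    · refine top_le_iff.1 fun x _ => ?_
      obtain ⟨V, hV, hxV⟩ := Set.mem_iUnion₂.mp (hcov ▸ Set.mem_univ (f x))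
      exact Opens.mem_iSup.2 ⟨⟨V, hV⟩, hxV⟩
    obtain ⟨g, hg⟩ : ∃ g : Fin (n V.1) → Γ(subMod S, V.1.1), ∀ i, (ι S).app V.1.1 (g i) = t V.1 i :=
      ⟨fun i => (exists_ι_app (hmem V.1 V.2 i)).choose,
        fun i => (exists_ι_app (hmem V.1 V.2 i)).choose_spec⟩
    let ψ : FlatMod.freeMod _ (n V.1) ⟶
        ((Scheme.Modules.pullback f).obj (subMod S)).restrict (f ⁻¹ᵁ V.1.1).ι :=
      Modules.Free.freeHom fun i => ((Scheme.Modules.pullback f).obj (subMod S)).presheaf.map
        (homOfLE (hge V.1)).op ((adj.unit.app (subMod S)).app V.1.1 (g i))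
    have hψ : ψ ≫ (Scheme.Modules.restrictFunctor (f ⁻¹ᵁ V.1.1).ι).map c = p V.1 := by
      refine Modules.Free.freeHom_ext fun i => ?_
      change c.app _ (ψ.app ⊤ (Modules.Free.gen _ i)) = _
      erw [Modules.Free.freeHom_app_gen]
      have h1 : c.app (f ⁻¹ᵁ V.1.1) ((adj.unit.app (subMod S)).app V.1.1 (g i)) = t V.1 i := by
        refine Eq.trans ?_ (hg i)
        exact congrArg (fun φ : subMod S ⟶ P => φ.app V.1.1 (g i))
          ((adj.homEquiv_unit _ _ c).symm.trans ((adj.homEquiv _ _).apply_symm_apply (ι S)))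
      refine (QCoh.Localizing.res_app c (hge V.1) _).symm.trans ?_
      rw [h1]
      exact (QCoh.Localizing.res_res (M := M) (hle V.1) (hge V.1) _).trans (QCoh.Localizing.res_self _ _)
    haveI := hp V.1 V.2
    haveI : Epi (ψ ≫ (Scheme.Modules.restrictFunctor (f ⁻¹ᵁ V.1.1).ι).map c) := hψ ▸ inferInstance
    exact epi_of_epi ψ _
  haveI := hπ
  exact ⟨_, (Scheme.Modules.pullback f).map π ≫ c,
    TensorMod.LocFree.isFinLocFree_pullback f hE, epi_comp _ _⟩

set_option backward.isDefEq.respectTransparency false in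
/-- The resolution property passes up morphisms with a relatively ample invertible module. -/
theorem hasResolutionProperty_of_isRelAmple (f : X ⟶ Y) [CompactSpace Y] [QuasiSeparatedSpace Y]
    (hY : PerfAux.HasResolutionProperty Y) (L : X.Modules) (hL : RelAmple.IsRelAmple f L)
    (hLi : PicF.IsInvertible L) : PerfAux.HasResolutionProperty X := by
  classical
  haveI := hL.1
  haveI : CompactSpace X := QuasiCompact.compactSpace_of_compactSpace f
  haveI : QuasiSeparated f :=
    (IsZariskiLocalAtTarget.iff_of_iSup_eq_top (P := @QuasiSeparated.{u}) (fun V : Y.affineOpens => (V : Y.Opens))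
      (iSup_affineOpens_eq_top Y)).2 fun V => by
      haveI : IsAffine (V.1 : Scheme.{u}) := V.2
      exact (quasiSeparated_iff_quasiSeparatedSpace _).2
        (Ample.Pullback.quasiSeparatedSpace_of_isAmple (hL.2 V))
  haveI : QuasiSeparatedSpace X := quasiSeparatedSpace_of_quasiSeparated f
  intro F hFq hFt
  haveI : F.IsQuasicoherent := hFq
  haveI : SheafOfModules.IsFiniteType (R := X.ringCatSheaf) F := hFt
  obtain ⟨s, hs, hcov⟩ := isCompact_and_isOpen_iff_finite_and_eq_biUnion_affineOpens.mp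
    (⟨isCompact_univ, isOpen_univ⟩ : IsCompact (Set.univ : Set Y) ∧ IsOpen (Set.univ : Set Y))
  have hpow : ∀ n, Coh.IsCoh (CohB1.tensorMod F (CohB1.tensorPow L n)) := fun n => by
    have hP := TensorMod.Invertible.isInvertible_tensorPow hLi n
    haveI := TensorMod.QCohInv.isQCoh_of_isInvertible hP
    haveI : SheafOfModules.IsFiniteType (R := X.ringCatSheaf) (CohB1.tensorPow L n) :=
      (Ample.GG.isCoh_of_isInvertible hP).2
    exact ⟨TensorMod.TensorQCoh.isQCoh_tensorMod _ _, TensorMod.TensorQCoh.isFiniteType_tensorMod _ _⟩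
  have hres : ∀ (W : X.Opens) (N : X.Modules), Coh.IsCoh N → Coh.IsCoh (N.restrict W.ι) :=
    fun W N hN => by
      haveI := hN.1
      haveI : SheafOfModules.IsFiniteType (R := X.ringCatSheaf) N := hN.2
      haveI := Modules.SupportOps.isFT_pullback W.ι N
      exact ⟨inferInstanceAs ((Scheme.Modules.restrictFunctor W.ι).obj N).IsQuasicoherent,
        Modules.SupportOps.isFT_of_iso ((Scheme.Modules.restrictFunctorIsoPullback W.ι).app N).symm⟩
  choose n₀ hn₀ using fun V : Y.affineOpens =>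
    haveI := Ample.Pullback.quasiSeparatedSpace_of_isAmple (hL.2 V)
    Ample.GG.eventually_genAt_twist (hL.2 V) (F.restrict (f ⁻¹ᵁ V.1).ι) (hres _ F ⟨hFq, hFt⟩)
  let N := hs.toFinset.sup n₀
  let P := CohB1.tensorPow L N
  have hP := TensorMod.Invertible.isInvertible_tensorPow hLi N
  haveI : (CohB1.tensorMod F P).IsQuasicoherent := (hpow N).1
  have hgenV : ∀ V : Y.affineOpens, V ∈ hs.toFinset → ∀ x,
      GenAt ((CohB1.tensorMod F P).restrict (f ⁻¹ᵁ V.1).ι) x := fun V hV x =>
    (hn₀ V N (Finset.le_sup hV) x).of_iso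
      (TensorMod.Pullback.restrictTensorIso (f ⁻¹ᵁ V.1).ι F P ≪≫
        TensorMod.Basic.tensorIso (Iso.refl _) (Ample.Pow.restrictPow _ L N)).symm
  obtain ⟨E, π, hE, hπ⟩ : ∃ (E : X.Modules) (π : E ⟶ CohB1.tensorMod F P),
      FlatMod.IsFinLocFree E ∧ Epi π := by
    refine exists_epi_pullback' f hY _ hs.toFinset ?_ fun V hV => ?_
    · refine Set.eq_univ_of_forall fun y => ?_
      obtain ⟨V, hV, hyV⟩ := Set.mem_iUnion₂.mp (hcov ▸ Set.mem_univ y)
      exact Set.mem_iUnion₂.2 ⟨V, hs.mem_toFinset.2 hV, hyV⟩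
    · haveI : CompactSpace (f ⁻¹ᵁ V.1 : Scheme.{u}) := (hL.2 V).2.1
      exact ResDescend36.Ample.exists_epi_freeMod _ (hres _ _ (hpow N)) (hgenV V hV)
  let D := TensorMod.Dual.dual P
  refine ⟨CohB1.tensorMod E D, TensorMod.Basic.tmap π (𝟙 D) ≫
    (TensorMod.Basic.assoc F P D ≪≫ TensorMod.Basic.tensorIso (Iso.refl F)
      (TensorMod.Invertible.tensorDualIso hP) ≪≫ TensorMod.Basic.rightUnit F).hom,
    TensorMod.LocFree.isFinLocFree_tensorMod hE
      (TensorMod.LocFree.of_rank (TensorMod.LocFree.of_isInvertible (TensorMod.Invertible.isInvertible_dual hP))), ?_⟩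
  haveI : Epi (TensorMod.Basic.tmap π (𝟙 D)) := by
    haveI := hπ
    haveI := (inferInstance : Epi ((TensorMod.Basic.tensorBy D).map π))
    exact this
  exact epi_comp _ _

end

end Groth.Agent.Lib.ResDescend36.Family
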