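import Groth.Agent.Lib.Ample.GG
import Groth.Agent.Lib.Ample.Pullback
import Groth.Agent.Lib.TensorMod.LocFree
import Groth.Agent.Lib.TensorMod.TensorQCoh
import Groth.Agent.Lib.TensorMod.Colimit
import Groth.Agent.Lib.TensorMod.Invertible
import Groth.Prelude.Def_PerfAux

/-!
# An ample module gives the resolution property
-/

set_option autoImplicit false
universe u

open CategoryTheory CategoryTheory.Limits AlgebraicGeometry Opposite TopologicalSpace

namespace Groth.Agent.Lib.ResDescend36.Ample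

open Groth.Agent.Lib Groth.Agent.Lib.Modules.StalkModule
open Groth.Agent.Lib.Ample.GG (gm memTop GenAt gm_rs)
open Groth.Agent.Lib.TensorMod.Dual (rs)
open Groth.Agent.Lib.TensorMod.Gen (one)

noncomputable section

variable {X : Scheme.{u}}

/-- A finitely generated module generated by global sections is a quotient of a finite free one. -/
theorem exists_epi_freeMod [CompactSpace X] (M : X.Modules) (hM : Coh.IsCoh M)
    (h : ∀ x, GenAt M x) : ∃ (k : ℕ) (p : FlatMod.freeMod X k ⟶ M), Epi p := by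
  classical
  haveI := hM.1
  obtain ⟨s, hs, hcov⟩ := isCompact_and_isOpen_iff_finite_and_eq_biUnion_affineOpens.mp
    (⟨isCompact_univ, isOpen_univ⟩ : IsCompact (Set.univ : Set X) ∧ IsOpen (Set.univ : Set X))
  haveI := hs.fintype
  have hfin : ∀ U : X.affineOpens, ∃ S : Finset Γ(M, ⊤),
      Submodule.span Γ(X, U.1) ((fun t => rs M (le_top : U.1 ≤ ⊤) t) '' (S : Set Γ(M, ⊤))) = ⊤ := by
    intro U
    haveI := CohBasics.Closure.finite_sections hM U.2
    have hspan : Submodule.span Γ(X, U.1) (Set.range fun t => rs M (le_top : U.1 ≤ ⊤) t) = ⊤ := by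
      refine CohBasics.Affine.span_eq_top_of_germ U.2 _ fun x hx => ?_
      rw [← Set.range_comp]
      refine Eq.trans ?_ (h x)
      congr 1
      exact congrArg Set.range (funext fun t => gm_rs le_top hx t)
    obtain ⟨T, hT⟩ := Submodule.fg_span_iff_fg_span_finset_subset (Set.range fun t => rs M (le_top : U.1 ≤ ⊤) t) |>.1
      (hspan.symm ▸ Module.Finite.fg_top)
    choose g hg using fun a : T => hT.1 a.2
    refine ⟨T.attach.image g, top_le_iff.1 (hspan.ge.trans (hT.2.le.trans (Submodule.span_mono ?_)))⟩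
    intro a ha
    exact ⟨g ⟨a, ha⟩, by simp, hg ⟨a, ha⟩⟩
  choose S hS using hfin
  let T : Finset Γ(M, ⊤) := (Finset.univ : Finset s).biUnion fun U => S U.1
  let p : FlatMod.freeMod X T.card ⟶ M :=
    Sigma.desc fun i : Fin T.card => Modules.Free.unitHom M (T.equivFin.symm i : Γ(M, ⊤))
  refine ⟨T.card, p, (Modules.Stalk.epi_iff_stalk_surjective p).2 fun x (v : M.presheaf.stalk x) => ?_⟩
  obtain ⟨U, hU, hxU⟩ := Set.mem_iUnion₂.mp (hcov ▸ Set.mem_univ x)
  have htop := CohBasics.Affine.germ_span_eq_top U.2 _ (hS U) hxU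
  have hr : Submodule.span (X.presheaf.stalk x)
      (M.presheaf.germ U.1 x hxU '' ((fun t => rs M (le_top : U.1 ≤ ⊤) t) '' (S U : Set Γ(M, ⊤)))) ≤
      LinearMap.range (stalkMapₗ p x) := by
    rw [Submodule.span_le]
    rintro _ ⟨_, ⟨t, ht, rfl⟩, rfl⟩
    have htT : t ∈ T := Finset.mem_biUnion.2 ⟨⟨U, hU⟩, Finset.mem_univ _, ht⟩
    let i := T.equivFin ⟨t, htT⟩
    let ι' : Coh.structureModule X ⟶ FlatMod.freeMod X T.card :=
      Sigma.ι (fun _ : Fin T.card => Coh.structureModule X) i
    refine ⟨gm (memTop x) (ι'.app ⊤ (one X ⊤)), ?_⟩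
    refine (stalkMapₗ_germ p (memTop x) _).trans ?_
    have hp : ι' ≫ p = Modules.Free.unitHom M t := by
      refine (Sigma.ι_desc _ _).trans (congrArg (Modules.Free.unitHom M) ?_)
      rw [Equiv.symm_apply_apply]
    refine Eq.trans (congrArg (gm (memTop x)) ((congrArg (fun φ => φ.app ⊤ (one X ⊤)) hp).trans
      (Modules.Free.unitHom_app_one M t))) (gm_rs le_top hxU t).symm
  obtain ⟨w, hw⟩ := hr (htop.ge (Submodule.mem_top (x := v)))
  exact ⟨w, hw⟩

/-- The resolution property from an ample module. -/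
theorem hasResolutionProperty (L : X.Modules) (hL : CohB1.IsAmple L) :
    PerfAux.HasResolutionProperty X := by
  intro F hFq hFt
  haveI : CompactSpace X := hL.2.1
  haveI := Groth.Agent.Lib.Ample.Pullback.quasiSeparatedSpace_of_isAmple hL
  obtain ⟨n, hn⟩ := Groth.Agent.Lib.Ample.GG.eventually_genAt_twist hL F ⟨hFq, hFt⟩
  have hP := TensorMod.Invertible.isInvertible_tensorPow hL.1 n
  let P := CohB1.tensorPow L n
  haveI := TensorMod.QCohInv.isQCoh_of_isInvertible hP
  haveI : F.IsQuasicoherent := hFq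
  haveI : SheafOfModules.IsFiniteType (R := X.ringCatSheaf) F := hFt
  haveI : SheafOfModules.IsFiniteType (R := X.ringCatSheaf) P :=
    (Groth.Agent.Lib.Ample.GG.isCoh_of_isInvertible hP).2
  have hcoh : Coh.IsCoh (CohB1.tensorMod F P) :=
    ⟨TensorMod.TensorQCoh.isQCoh_tensorMod _ _, TensorMod.TensorQCoh.isFiniteType_tensorMod _ _⟩
  obtain ⟨k, p, hp⟩ := exists_epi_freeMod _ hcoh (hn n le_rfl)
  let D := TensorMod.Dual.dual P
  refine ⟨CohB1.tensorMod (FlatMod.freeMod X k) D, TensorMod.Basic.tmap p (𝟙 D) ≫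
    (TensorMod.Basic.assoc F P D ≪≫ TensorMod.Basic.tensorIso (Iso.refl F)
      (TensorMod.Invertible.tensorDualIso hP) ≪≫ TensorMod.Basic.rightUnit F).hom,
    TensorMod.LocFree.isFinLocFree_tensorMod (TensorMod.LocFree.of_rank (TensorMod.LocFree.isFinLocFree_freeMod X k))
      (TensorMod.LocFree.of_rank (TensorMod.LocFree.of_isInvertible (TensorMod.Invertible.isInvertible_dual hP))), ?_⟩
  haveI : Epi (TensorMod.Basic.tmap p (𝟙 D)) := by
    haveI := (inferInstance : Epi ((TensorMod.Basic.tensorBy D).map p))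
    exact this
  exact epi_comp _ _

end

end Groth.Agent.Lib.ResDescend36.Ample
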