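import Groth.Agent.H81.PushLocFree
import Groth.Agent.Lib.Modules.ProjFormula
import Groth.Agent.Lib.Modules.TensorAffine
import Groth.Agent.Lib.ZarCoh.FlatBC.PullbackSections
import Groth.Agent.Lib.ProjKoszul.Surj
import Groth.Agent.Lib.Modules.AffineSections
import Groth.Agent.Lib.ClSub.Basis

/-!
# `f_* f^* F ≅ F ⊗ f_* O` for affine `f`, and the locally free push forward of a locally free module
-/

set_option autoImplicit false
universe u

open CategoryTheory CategoryTheory.Limits AlgebraicGeometry Opposite TopologicalSpace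
open scoped TensorProduct

namespace Groth.Agent.Lib.ResDescend36.Proj

open Groth.Agent.Lib Groth.Agent.Lib.Modules
open Groth.Agent.Lib.TensorMod.Pullback (pb pf pbAdj unitSec)
open Groth.Agent.Lib.Modules.TensorSec
open Groth.Agent.Lib.Modules.ProjFormula (theta theta_tens)
open Groth.Agent.H81.PushLocFree (push)
open Groth.Agent.Lib.TensorMod.Basic (rightUnit)

noncomputable section

variable {X Y : Scheme.{u}} (f : X ⟶ Y)

/-- `F ⊗ f_* O ⟶ f_* f^* F`. -/
def projMap (F : Y.Modules) : CohB1.tensorMod F (push f) ⟶ (pf f).obj ((pb f).obj F) :=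
  theta f F (Coh.structureModule X) ≫ (pf f).map (rightUnit ((pb f).obj F)).hom

lemma projMap_tens (F : Y.Modules) {V : Y.Opens} (m : Γ(F, V)) (b : Γ(X, f ⁻¹ᵁ V)) :
    (projMap f F).app V (tens m (show Γ(push f, V) from b)) =
      (show Γ((pf f).obj ((pb f).obj F), V) from b • unitSec f F m) := by
  rw [projMap, Scheme.Modules.Hom.comp_app, CategoryTheory.comp_apply, theta_tens]
  refine Eq.trans (TensorSec.app_tens (U := f ⁻¹ᵁ V) (rightUnit ((pb f).obj F)).hom _ _) ?_
  exact ProjKoszul.Surj.pairM_rightUnit_hom ((pb f).obj F) (U := f ⁻¹ᵁ V) (unitSec f F m) b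

/-- The projection map is an isomorphism for affine `f` and quasi-coherent `F`. -/
theorem isIso_projMap [IsAffineHom f] (F : Y.Modules) [F.IsQuasicoherent] :
    IsIso (projMap f F) := by
  have := TensorMod.QCohInv.isQCoh_structureModule X
  have := QCoh.Pushforward.isQCoh_pushforward f (M := Coh.structureModule X)
  refine ClSub.Basis.isIso_of_bijective_affine _ fun ⟨V, hV⟩ => ?_
  let A := Γ(Y, V); let B := Γ(X, f ⁻¹ᵁ V)
  letI : Algebra A B := (f.appLE V (f ⁻¹ᵁ V) le_rfl).hom.toAlgebra
  have e0 : ∀ r : A, f.appLE V (f ⁻¹ᵁ V) le_rfl r = f.app V r := fun r => by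
    rw [Scheme.Hom.app_eq_appLE]
  let s : B ≃ₗ[A] Γ(push f, V) :=
  { toFun := fun b => b
    invFun := fun b => b
    map_add' := fun _ _ => rfl
    map_smul' := fun r b => by
      show f.appLE V (f ⁻¹ᵁ V) le_rfl r * b = f.app V r * b
      rw [e0] }
  let e : B ⊗[A] Γ(F, V) ≃ₗ[A] Γ(F, V) ⊗[A] Γ(push f, V) :=
    (TensorProduct.comm A B Γ(F, V)).trans (TensorProduct.congr (LinearEquiv.refl A _) s)
  have h : ∀ z : B ⊗[A] Γ(F, V), (projMap f F).app V (TensorAffine.gamma F (push f) V (e z)) =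
      (show Γ((pf f).obj ((pb f).obj F), V) from
        ZarCoh.FlatBC.PullbackSections.pbTensor f F le_rfl z) := by
    intro z
    induction z using TensorProduct.induction_on with
    | zero => simp only [map_zero]; rfl
    | tmul b m =>
      refine (projMap_tens f F m b).trans ?_
      show b • unitSec f F m = b • ZarCoh.FlatBC.PullbackSections.pbRes f F le_rfl m
      congr 1
      show _ = ((pb f).obj F).presheaf.map (𝟙 _) (unitSec f F m)
      rw [CategoryTheory.Functor.map_id]
      rfl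
    | add x y hx hy => simp only [map_add, hx, hy]; rfl
  have hg := TensorAffine.bijective_gamma (M := F) (N := push f) hV
  have hp : Function.Bijective (fun z => (projMap f F).app V (TensorAffine.gamma F (push f) V (e z))) := by
    rw [funext h]
    exact ZarCoh.FlatBC.PullbackSections.bijective_pbTensor f F hV (hV.preimage f) le_rfl
  have := (Function.Bijective.of_comp_iff ((projMap f F).app V) (hg.comp e.bijective)).1 hp
  exact this

/-- The direct image of a finite locally free module along a finite locally free morphism. -/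
theorem isFinLocFree_pushforward [IsFinite f] [Flat f] [LocallyOfFinitePresentation f]
    {E : X.Modules} (hE : FlatMod.IsFinLocFree E) : FlatMod.IsFinLocFree ((pf f).obj E) := by
  intro y
  have := AffineSections.isQCoh_of_isFinLocFree hE
  have := QCoh.Pushforward.isQCoh_pushforward f (M := E)
  obtain ⟨V, hV, hy, -⟩ := exists_isAffineOpen_mem_and_subset (Opens.mem_top y)
  obtain ⟨hf, hp⟩ := AffineSections.finite_projective_sections hE (hV.preimage f)
  letI := (f.app V).hom.toAlgebra
  have h1 : IsFinite (Spec.map (f.app V)) :=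
    MorphismProperty.of_isPullback (H81.PushLocFree.isPullback_fromSpec f hV) ‹IsFinite f›
  have h2 : Flat (Spec.map (f.app V)) :=
    MorphismProperty.of_isPullback (H81.PushLocFree.isPullback_fromSpec f hV) ‹Flat f›
  have h3 : LocallyOfFinitePresentation (Spec.map (f.app V)) :=
    MorphismProperty.of_isPullback (H81.PushLocFree.isPullback_fromSpec f hV)
      ‹LocallyOfFinitePresentation f›
  rw [IsFinite.SpecMap_iff] at h1
  rw [Flat.SpecMap_iff] at h2
  rw [HasRingHomProperty.Spec_iff (P := @LocallyOfFinitePresentation)] at h3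
  have : Module.Finite Γ(Y, V) Γ(X, f ⁻¹ᵁ V) := h1
  have : Module.Flat Γ(Y, V) Γ(X, f ⁻¹ᵁ V) := h2
  have : Algebra.FinitePresentation Γ(Y, V) Γ(X, f ⁻¹ᵁ V) := h3
  have := Module.FinitePresentation.of_finite_of_finitePresentation Γ(Y, V) Γ(X, f ⁻¹ᵁ V)
  have : Module.Projective Γ(Y, V) Γ(X, f ⁻¹ᵁ V) := Module.Flat.projective_of_finitePresentation
  letI : Module Γ(Y, V) Γ(E, f ⁻¹ᵁ V) := Module.compHom _ (f.app V).hom
  haveI : IsScalarTower Γ(Y, V) Γ(X, f ⁻¹ᵁ V) Γ(E, f ⁻¹ᵁ V) :=
    ⟨fun r a v => mul_smul (f.app V r) a v⟩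
  let se : Γ(E, f ⁻¹ᵁ V) ≃ₗ[Γ(Y, V)] Γ((pf f).obj E, V) :=
  { toFun := fun b => b
    invFun := fun b => b
    map_add' := fun _ _ => rfl
    map_smul' := fun _ _ => rfl }
  have : Module.Finite Γ(Y, V) Γ(E, f ⁻¹ᵁ V) := Module.Finite.trans Γ(X, f ⁻¹ᵁ V) _
  have : Module.Flat Γ(Y, V) Γ(E, f ⁻¹ᵁ V) := Module.Flat.trans Γ(Y, V) Γ(X, f ⁻¹ᵁ V) _
  have := Module.finitePresentation_of_projective Γ(X, f ⁻¹ᵁ V) Γ(E, f ⁻¹ᵁ V)
  have := Module.FinitePresentation.trans (R := Γ(Y, V)) (M := Γ(E, f ⁻¹ᵁ V)) Γ(X, f ⁻¹ᵁ V)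
  have : Module.Projective Γ(Y, V) Γ(E, f ⁻¹ᵁ V) := Module.Flat.projective_of_finitePresentation
  have : Module.Finite Γ(Y, V) Γ((pf f).obj E, V) := Module.Finite.equiv se
  have : Module.Projective Γ(Y, V) Γ((pf f).obj E, V) := Module.Projective.of_equiv se
  exact H81.PushLocFree.exists_free_nhd_of_projective hV hy

end

end Groth.Agent.Lib.ResDescend36.Proj
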