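import Groth.Agent.Lib.ResDescend36.Boundary2
import Groth.Agent.Lib.Modules.SupportOps
import Groth.Agent.Lib.TensorMod.Integral
import Groth.Agent.Lib.AffStrat36.Main

/-!
# Box products of finite locally free modules
-/

set_option autoImplicit false
set_option linter.style.haveILetI false
universe u

open CategoryTheory CategoryTheory.Limits AlgebraicGeometry Opposite TopologicalSpace

namespace Groth.Agent.Lib.ResDescend36.Box

open Groth.Agent.Lib Groth.Agent.Lib.Modules.StalkModule
open Groth.Agent.Lib.ResDescend36.Boundary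
open Groth.Agent.Lib.TensorMod.Basic (tmap)

noncomputable section

variable {X Y P : Scheme.{u}} (p : P ⟶ X) (q : P ⟶ Y)

/-- The box product. -/
abbrev bx (A : X.Modules) (B : Y.Modules) : P.Modules :=
  CohB1.tensorMod ((Scheme.Modules.pullback p).obj A) ((Scheme.Modules.pullback q).obj B)

/-- Being a box product of finite locally free modules. -/
def IsBox (M : P.Modules) : Prop :=
  ∃ (A : X.Modules) (B : Y.Modules), FlatMod.IsFinLocFree A ∧ FlatMod.IsFinLocFree B ∧
    Nonempty (bx p q A B ≅ M)

variable {p q}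

/-- `(a ⊗ b) ⊗ (c ⊗ d) ≅ (a ⊗ c) ⊗ (b ⊗ d)`. -/
def interchange (a b c d : P.Modules) :
    CohB1.tensorMod (CohB1.tensorMod a b) (CohB1.tensorMod c d) ≅
      CohB1.tensorMod (CohB1.tensorMod a c) (CohB1.tensorMod b d) :=
  TensorMod.Basic.assoc a b _ ≪≫ TensorMod.Basic.tensorIso (Iso.refl a)
    ((TensorMod.Basic.assoc b c d).symm ≪≫ TensorMod.Basic.tensorIso (TensorMod.Basic.comm b c) (Iso.refl d) ≪≫
      TensorMod.Basic.assoc c b d) ≪≫ (TensorMod.Basic.assoc a c _).symm

lemma IsBox.tensor {M N : P.Modules} (hM : IsBox p q M) (hN : IsBox p q N) :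
    IsBox p q (CohB1.tensorMod M N) := by
  obtain ⟨A, B, hA, hB, ⟨i⟩⟩ := hM
  obtain ⟨A', B', hA', hB', ⟨j⟩⟩ := hN
  exact ⟨CohB1.tensorMod A A', CohB1.tensorMod B B', TensorMod.LocFree.isFinLocFree_tensorMod hA hA',
    TensorMod.LocFree.isFinLocFree_tensorMod hB hB',
    ⟨TensorMod.Basic.tensorIso (TensorMod.Pullback.pullbackTensorIso p A A')
      (TensorMod.Pullback.pullbackTensorIso q B B') ≪≫ interchange _ _ _ _ ≪≫
      TensorMod.Basic.tensorIso i j⟩⟩

lemma isFinLocFree_structure (X : Scheme.{u}) : FlatMod.IsFinLocFree (Coh.structureModule X) :=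
  TensorMod.LocFree.of_rank (TensorMod.LocFree.of_isInvertible (ParaF.Pair.isInvertible_structureModule X))

lemma isBox_free (k : ℕ) : IsBox p q (FlatMod.freeMod P k) :=
  ⟨FlatMod.freeMod X k, Coh.structureModule Y,
    TensorMod.LocFree.of_rank (TensorMod.LocFree.isFinLocFree_freeMod X k), isFinLocFree_structure Y,
    ⟨TensorMod.Basic.tensorIso (TensorMod.LocFree.pullbackFreeModIso p k) (PicLoc.pullbackStructureIso q) ≪≫
      TensorMod.Basic.rightUnit _⟩⟩

lemma isBox_structure : IsBox p q (Coh.structureModule P) :=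
  ⟨Coh.structureModule X, Coh.structureModule Y, isFinLocFree_structure X, isFinLocFree_structure Y,
    ⟨TensorMod.Basic.tensorIso (PicLoc.pullbackStructureIso p) (PicLoc.pullbackStructureIso q) ≪≫
      TensorMod.Basic.leftUnit _⟩⟩

lemma isBox_pw {E : P.Modules} (hE : IsBox p q E) (σ : E ⟶ Coh.structureModule P) :
    ∀ n, IsBox p q (pw σ n).1
  | 0 => isBox_structure
  | n + 1 => hE.tensor (isBox_pw hE σ n)

/-- The locus of surjectivity of a pulled back functional. -/
theorem surjective_pullback_iff {E : X.Modules} (hE : FlatMod.IsFinLocFree E)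
    (σ : E ⟶ Coh.structureModule X) (z : P) :
    Function.Surjective (stalkMapₗ ((Scheme.Modules.pullback p).map σ ≫ (PicLoc.pullbackStructureIso p).hom) z) ↔
      Function.Surjective (stalkMapₗ σ (p z)) := by
  haveI : E.IsQuasicoherent := Modules.AffineSections.isQCoh_of_isFinLocFree hE
  have hOlf := isFinLocFree_structure X
  haveI : (Coh.structureModule X).IsQuasicoherent := Modules.AffineSections.isQCoh_of_isFinLocFree hOlf
  let C : X.Modules := cokernel σ
  haveI : C.IsQuasicoherent := QCoh.Closure.isQCoh_cokernel σ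
  haveI : SheafOfModules.IsFiniteType (R := X.ringCatSheaf) C :=
    CohBasics.Affine.isFiniteType_of_finite_sections fun x => by
      obtain ⟨_, ⟨W, hW, rfl⟩, hxW, -⟩ := X.isBasis_affineOpens.exists_subset_of_mem_open (Set.mem_univ x) isOpen_univ
      haveI := (Modules.AffineSections.finite_projective_sections hOlf hW).1
      exact ⟨W, hW, hxW, Module.Finite.of_surjective
        ({ toFun := (cokernel.π σ : Coh.structureModule X ⟶ C).app W
           map_add' := map_add _
           map_smul' := fun r y => Scheme.Modules.Hom.app_smul (cokernel.π σ : Coh.structureModule X ⟶ C) r y } :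
          Γ(Coh.structureModule X, W) →ₗ[Γ(X, W)] Γ(C, W))
        (QCoh.Closure.sections_surjective_of_epi (cokernel.π σ : Coh.structureModule X ⟶ C) hW)⟩
  have key : ∀ {S : Scheme.{u}} {A B : S.Modules} (f : A ⟶ B) (s : S),
      Function.Surjective (stalkMapₗ f s) ↔ s ∉ CohB1.support (cokernel f) := by
    intro S A B f s
    rw [Modules.Support.not_mem_support_iff]
    obtain ⟨-, hsurj, hex⟩ : True ∧ Function.Surjective (stalkMapₗ (cokernel.π f) s) ∧
        Function.Exact (stalkMapₗ f s) (stalkMapₗ (cokernel.π f) s) := by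
      refine ⟨trivial, (Modules.Stalk.epi_iff_stalk_surjective (cokernel.π f)).1 inferInstance s, ?_⟩
      haveI : PreservesFiniteColimits (stalkModFunctor S s) :=
        PreservesColimitsOfSize.preservesFiniteColimits _
      have h := (ShortComplex.exact_of_g_is_cokernel (ShortComplex.mk f (cokernel.π f) (cokernel.condition f))
        (cokernelIsCokernel f)).map (stalkModFunctor S s)
      exact (ShortComplex.ShortExact.moduleCat_exact_iff_function_exact _).1 h
    refine ⟨fun h => ⟨fun v w => ?_⟩, fun h v => (hex v).1 (Subsingleton.elim _ _)⟩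
    obtain ⟨v, rfl⟩ := hsurj v
    obtain ⟨w, rfl⟩ := hsurj w
    rw [(hex v).2 (h v), (hex w).2 (h w)]
  rw [stalkMapₗ_comp, LinearMap.coe_comp]
  haveI : PreservesFiniteColimits (Scheme.Modules.pullback p) := by
    haveI := (Scheme.Modules.pullbackPushforwardAdjunction p).leftAdjoint_preservesColimits
    exact PreservesColimitsOfSize.preservesFiniteColimits.{u, u} _
  have hiso : Function.Bijective (stalkMapₗ (PicLoc.pullbackStructureIso p).hom z) :=
    (stalkLinearEquiv (PicLoc.pullbackStructureIso p) z).bijective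
  rw [Function.Surjective.of_comp_iff' hiso, key, key, ← Set.mem_preimage (f := ⇑p),
    show cokernel σ = C from rfl, ← Modules.SupportOps.support_pullback p C]
  refine not_congr ?_
  have e := PreservesCokernel.iso (Scheme.Modules.pullback p) σ
  simp only [CohB1.support, Set.mem_setOf_eq]
  exact not_congr (stalkLinearEquiv e z).symm.toEquiv.subsingleton_congr

/-- The locus of surjectivity of a product of two functionals. -/
theorem surjective_prod_iff {A B : P.Modules} (a : A ⟶ Coh.structureModule P)
    (b : B ⟶ Coh.structureModule P) (z : P) :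
    Function.Surjective (stalkMapₗ (tmap a b ≫ (TensorMod.Basic.leftUnit (Coh.structureModule P)).hom) z) ↔
      Function.Surjective (stalkMapₗ a z) ∧ Function.Surjective (stalkMapₗ b z) := by
  have hiso : ∀ {M N : P.Modules} (e : M ≅ N), Function.Bijective (stalkMapₗ e.hom z) :=
    fun e => (stalkLinearEquiv e z).bijective
  rw [stalkMapₗ_comp, LinearMap.coe_comp, Function.Surjective.of_comp_iff' (hiso _)]
  have h1 : tmap a b = tmap a (𝟙 B) ≫ tmap (𝟙 (Coh.structureModule P)) b := by
    rw [← TensorMod.Basic.tmap_comp, Category.comp_id, Category.id_comp]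
  have h2 : tmap a b = tmap (𝟙 A) b ≫ tmap a (𝟙 (Coh.structureModule P)) := by
    rw [← TensorMod.Basic.tmap_comp, Category.comp_id, Category.id_comp]
  have hb : Function.Surjective (stalkMapₗ (tmap (𝟙 (Coh.structureModule P)) b) z) ↔
      Function.Surjective (stalkMapₗ b z) := by
    have e := congrArg (fun f => ⇑(stalkMapₗ f z)) (TensorMod.Basic.leftUnit_natural b)
    simp only [stalkMapₗ_comp, LinearMap.coe_comp] at e
    rw [← Function.Surjective.of_comp_iff' (hiso (TensorMod.Basic.leftUnit _)), e,
      Function.Surjective.of_comp_iff _ (hiso (TensorMod.Basic.leftUnit B)).2]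
  have ha : Function.Surjective (stalkMapₗ (tmap a (𝟙 (Coh.structureModule P))) z) ↔
      Function.Surjective (stalkMapₗ a z) := by
    have e := congrArg (fun f => ⇑(stalkMapₗ f z)) (TensorMod.Basic.rightUnit_natural a)
    simp only [stalkMapₗ_comp, LinearMap.coe_comp] at e
    rw [← Function.Surjective.of_comp_iff' (hiso (TensorMod.Basic.rightUnit _)), e,
      Function.Surjective.of_comp_iff _ (hiso (TensorMod.Basic.rightUnit A)).2]
  refine ⟨fun h => ⟨ha.1 ?_, hb.1 ?_⟩, fun h => ?_⟩
  · rw [h2, stalkMapₗ_comp, LinearMap.coe_comp] at h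
    exact h.of_comp
  · rw [h1, stalkMapₗ_comp, LinearMap.coe_comp] at h
    exact h.of_comp
  · rw [h1, stalkMapₗ_comp, LinearMap.coe_comp]
    exact (hb.2 h.2).comp (Family.surjective_tmap a B h.1)

/-- A functional on a finite locally free module which is surjective exactly on an affine open. -/
theorem exists_functional [CompactSpace X] [QuasiSeparatedSpace X] (hX : PerfAux.HasResolutionProperty X)
    {U : X.Opens} (hU : IsAffineOpen U) :
    ∃ (E : X.Modules) (σ : E ⟶ Coh.structureModule X), FlatMod.IsFinLocFree E ∧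
      ∀ x, Function.Surjective (stalkMapₗ σ x) ↔ x ∈ U := by
  obtain ⟨I, hI, hIs⟩ := AffStrat36.Main.exists_fg_support (V := X)
    (⟨(U : Set X)ᶜ, U.2.isClosed_compl⟩ : Closeds X) (by
      change IsCompact (U : Set X)ᶜᶜ
      rw [compl_compl]; exact hU.isCompact)
  haveI : (_root_.ClSub.idealMod I).IsQuasicoherent := Ample.QAffCrit.isQCoh_idealMod I
  obtain ⟨E, π, hE, hπ⟩ := hX (_root_.ClSub.idealMod I) (Ample.QAffCrit.isQCoh_idealMod I)
    (Ample.QAffCrit.isFT_idealMod I hI)
  refine ⟨E, π ≫ _root_.ClSub.idealModι I, hE, fun x => ?_⟩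
  haveI := hπ
  have hπx : Function.Surjective (stalkMapₗ π x) :=
    (Modules.Stalk.epi_iff_stalk_surjective π).1 inferInstance x
  rw [stalkMapₗ_comp, LinearMap.coe_comp, Function.Surjective.of_comp_iff _ hπx]
  obtain ⟨hinj, -, hex⟩ := DerivedOX.Calculus.stalk_shortExact (ClSub.Quot.idealSeq_shortExact I) x
  have hs : x ∈ CohB1.support (_root_.ClSub.quotMod I) ↔ x ∈ (I.support : Set X) := by
    rw [ClSub.Quot.support_quotMod]
  rw [hIs] at hs
  have hsurj := (Modules.Stalk.epi_iff_stalk_surjective (_root_.ClSub.toSubscheme I)).1 inferInstance x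
  constructor
  · intro h
    by_contra hx
    refine hs.2 hx ⟨fun v w => ?_⟩
    obtain ⟨v, rfl⟩ := hsurj v
    obtain ⟨w, rfl⟩ := hsurj w
    exact ((hex v).2 (h v)).trans ((hex w).2 (h w)).symm
  · intro hx v
    haveI : Subsingleton ((_root_.ClSub.quotMod I).presheaf.stalk x) := by
      by_contra hc
      exact hs.1 hc hx
    exact (hex v).1 (@Subsingleton.elim ((_root_.ClSub.quotMod I).presheaf.stalk x) _ _ _)

end

end Groth.Agent.Lib.ResDescend36.Box
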