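import Groth.Agent.Lib.ResDescend36.Family
import Groth.Agent.Lib.ResDescend36.Affine
import Groth.Agent.Lib.ClSub.Sections
import Groth.Agent.Lib.QCoh.Closure
import Groth.Agent.Lib.QCoh.Pushforward
import Groth.Agent.Lib.Modules.AffineSections
import Groth.Agent.Lib.Ample.QAffCrit
import Groth.Agent.Lib.ParaF.Pair
import Mathlib.CategoryTheory.Limits.Types.Pullbacks

/-!
# The resolution property from resolutions of boundary ideals

If a functional `σ : E ⟶ O` on a finite locally free module is surjective exactly on the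
quasi-compact open `U`, every quasi-coherent module of finite type on `U`-affine pieces is reached
from tensor powers of `E`: `σ` kills finite type modules supported off `U` after enough tensor
powers, which splits the extensions in question.
-/

set_option autoImplicit false
set_option linter.style.haveILetI false
universe u

open CategoryTheory CategoryTheory.Limits AlgebraicGeometry Opposite TopologicalSpace

namespace Groth.Agent.Lib.ResDescend36.Boundary

open Groth.Agent.Lib Groth.Agent.Lib.Modules.StalkModule Groth.Agent.Lib.Modules.SubStalk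
open Groth.Agent.Lib.Ample.GG (gm gm_rs mem_of_tmul gm_smul rs_pairM)
open Groth.Agent.Lib.TensorMod.Dual (rs)
open Groth.Agent.Lib.TensorMod.Gen (one)
open Groth.Agent.Lib.TensorMod.Basic (tmap)
open Groth.Agent.Lib.TensorMod.Free (pairM)

noncomputable section

variable {X : Scheme.{u}}

/-- Tensor powers of `E` with the product functional. -/
def pw {E : X.Modules} (σ : E ⟶ Coh.structureModule X) :
    ℕ → Σ' P : X.Modules, P ⟶ Coh.structureModule X
  | 0 => ⟨Coh.structureModule X, 𝟙 _⟩
  | n + 1 => ⟨CohB1.tensorMod E (pw σ n).1,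
      tmap σ (𝟙 _) ≫ (TensorMod.Basic.leftUnit _).hom ≫ (pw σ n).2⟩

lemma isFinLocFree_pw {E : X.Modules} (hE : FlatMod.IsFinLocFree E) (σ : E ⟶ Coh.structureModule X) :
    ∀ n, FlatMod.IsFinLocFree (pw σ n).1
  | 0 => TensorMod.LocFree.of_rank (TensorMod.LocFree.of_isInvertible (ParaF.Pair.isInvertible_structureModule X))
  | n + 1 => TensorMod.LocFree.isFinLocFree_tensorMod hE (isFinLocFree_pw hE σ n)

/-- The germ of a pure tensor is linear in the first entry. -/
lemma gm_pair_left {M N : X.Modules} {x : X} {W : X.Opens} (hx : x ∈ W) (a a₁ : Γ(M, W))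
    (c : Γ(N, W)) (b : X.presheaf.stalk x) (h : gm hx a = b • gm hx a₁) :
    gm hx (pairM (𝟙 (CohB1.tensorMod M N)) a c) = b • gm hx (pairM (𝟙 (CohB1.tensorMod M N)) a₁ c) := by
  obtain ⟨W', hx', r, rfl⟩ := TopCat.Presheaf.exists_germ_eq X.presheaf b
  have hxV : x ∈ W ⊓ W' := ⟨hx, hx'⟩
  have h' : gm hxV (rs M inf_le_left a) =
      gm hxV (QCoh.Localizing.resR (inf_le_right : W ⊓ W' ≤ W') r • rs M inf_le_left a₁) := by
    rw [gm_smul, gm_rs, gm_rs, TopCat.Presheaf.germ_res_apply]
    exact h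
  obtain ⟨V, hV, i, j, e⟩ := TopCat.Presheaf.germ_eq M.presheaf x hxV hxV _ _ h'
  obtain rfl : i = j := Subsingleton.elim _ _
  have e' : rs M i.le (rs M inf_le_left a) =
      rs M i.le (QCoh.Localizing.resR (inf_le_right : W ⊓ W' ≤ W') r • rs M inf_le_left a₁) := e
  have hleW : V ≤ W := i.le.trans inf_le_left
  rw [← gm_rs hleW hV, rs_pairM, ← gm_rs hleW hV (pairM _ a₁ c), rs_pairM]
  have ha : rs M hleW a = QCoh.Localizing.resR i.le (QCoh.Localizing.resR
      (inf_le_right : W ⊓ W' ≤ W') r) • rs M hleW a₁ := by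
    rw [← TensorMod.Dual.rs_rs _ (h := (inf_le_left : W ⊓ W' ≤ W)) (h' := i.le), e',
      ← TensorMod.Dual.rs_rs _ (h := (inf_le_left : W ⊓ W' ≤ W)) (h' := i.le) a₁]
    exact QCoh.Localizing.res_smul i.le _ _
  rw [ha, TensorMod.Pullback.pairM_smul_left, gm_smul, TopCat.Presheaf.germ_res_apply,
    TopCat.Presheaf.germ_res_apply]

/-- The germ of the unit section does not depend on the neighbourhood. -/
lemma gm_one {x : X} {V W : X.Opens} (hV : x ∈ V) (hW : x ∈ W) :
    gm hV (one X V) = gm hW (one X W) := by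
  refine ((gm_rs (inf_le_left : V ⊓ W ≤ V) ⟨hV, hW⟩ _).symm.trans ?_).trans
    (gm_rs (inf_le_right : V ⊓ W ≤ W) ⟨hV, hW⟩ _)
  exact congrArg (gm _) ((map_one (X.presheaf.map _).hom).trans (map_one (X.presheaf.map _).hom).symm)

/-- Values of a product of two functionals. -/
lemma range_mul_le {A B : X.Modules} (φ₀ : A ⟶ Coh.structureModule X) (φ : B ⟶ Coh.structureModule X)
    {x : X} {W : X.Opens} (hW : x ∈ W) (I J : Ideal (X.presheaf.stalk x))
    (hI : LinearMap.range (stalkMapₗ φ₀ x) ≤
      Submodule.map (LinearMap.toSpanSingleton (X.presheaf.stalk x) _ (gm hW (one X W))) I)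
    (hJ : LinearMap.range (stalkMapₗ φ x) ≤
      Submodule.map (LinearMap.toSpanSingleton (X.presheaf.stalk x) _ (gm hW (one X W))) J) :
    LinearMap.range (stalkMapₗ (tmap φ₀ (𝟙 B) ≫ (TensorMod.Basic.leftUnit B).hom ≫ φ) x) ≤
      Submodule.map (LinearMap.toSpanSingleton (X.presheaf.stalk x) _ (gm hW (one X W))) (I * J) := by
  refine LinearMap.range_le_iff_comap.2 (mem_of_tmul _ fun V hxV e e' => ?_)
  obtain ⟨b, hb, hbe⟩ := hI ⟨gm hxV e, rfl⟩
  rw [LinearMap.toSpanSingleton_apply, stalkMapₗ_germ, gm_one hW hxV] at hbe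
  obtain ⟨c, hc, hce⟩ := hJ ⟨stalkMapₗ (TensorMod.Basic.leftUnit B).hom x
    (gm hxV (pairM (𝟙 _) (one X V) e')), rfl⟩
  refine ⟨b * c, Ideal.mul_mem_mul hb hc, ?_⟩
  rw [LinearMap.toSpanSingleton_apply] at hce ⊢
  rw [mul_smul, hce, ← map_smul, ← map_smul, ← gm_pair_left hxV _ (one X V) e' b hbe.symm,
    stalkMapₗ_comp, stalkMapₗ_comp, LinearMap.comp_apply, LinearMap.comp_apply]
  refine congrArg (stalkMapₗ φ x) (congrArg (stalkMapₗ (TensorMod.Basic.leftUnit B).hom x) ?_)
  refine Eq.trans ?_ (stalkMapₗ_germ (tmap φ₀ (𝟙 B)) hxV _).symm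
  refine congrArg (gm hxV) ?_
  rw [← TensorMod.Free.pairM_comp, Category.id_comp, TensorMod.Free.pairM_tmap]
  rfl

/-- A finite type module vanishing where `σ` is surjective is killed by a tensor power of `σ`. -/
theorem exists_tmap_eq_zero [CompactSpace X] (U : X.Opens) {E : X.Modules}
    (hE : FlatMod.IsFinLocFree E) (σ : E ⟶ Coh.structureModule X)
    (hσ : ∀ x, Function.Surjective (stalkMapₗ σ x) → x ∈ U)
    (C : X.Modules) [C.IsQuasicoherent] (hC : ∀ W : X.affineOpens, Module.Finite Γ(X, W.1) Γ(C, W.1))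
    (hCU : ∀ x ∈ U, ∀ v : C.presheaf.stalk x, v = 0) :
    ∃ n : ℕ, tmap (𝟙 C) (pw σ n).2 = 0 := by
  classical
  haveI : E.IsQuasicoherent := Modules.AffineSections.isQCoh_of_isFinLocFree hE
  -- the ideal of values of `σ`
  let a : ∀ W : X.affineOpens, Γ(E, W.1) → Γ(X, W.1) := fun W e => σ.app W.1 e
  let A : ∀ W : X.affineOpens, Ideal Γ(X, W.1) := fun W => Ideal.span (Set.range (a W))
  have hA : ∀ W, (A W).FG := fun W => by
    haveI := (Modules.AffineSections.finite_projective_sections hE W.2).1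
    obtain ⟨k, g, hg⟩ := Module.Finite.exists_fin (R := Γ(X, W.1)) (M := Γ(E, W.1))
    refine ⟨Finset.univ.image fun i => a W (g i), le_antisymm
      (Ideal.span_mono fun y hy => ?_) (Ideal.span_le.2 ?_)⟩
    · simp only [Finset.coe_image, Finset.coe_univ, Set.image_univ, Set.mem_range] at hy
      obtain ⟨i, rfl⟩ := hy
      exact ⟨g i, rfl⟩
    · rintro _ ⟨e, rfl⟩
      induction (hg.ge (Submodule.mem_top (x := e))) using Submodule.span_induction with
      | mem y hy => obtain ⟨i, rfl⟩ := hy; exact Ideal.subset_span (by simp)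
      | zero => rw [show a W 0 = 0 from map_zero (σ.app W.1).hom]; exact zero_mem _
      | add y z _ _ hy hz =>
        rw [show a W (y + z) = a W y + a W z from map_add (σ.app W.1).hom y z]
        exact add_mem hy hz
      | smul r y _ hy =>
        rw [show a W (r • y) = r * a W y from Scheme.Modules.Hom.app_smul σ r y]
        exact Ideal.mul_mem_left _ _ hy
  have hkill : ∀ W : X.affineOpens, ∃ m : ℕ, ∀ r ∈ A W ^ m, ∀ c : Γ(C, W.1), r • c = 0 := fun W => by
    haveI := hC W
    let Ann := Module.annihilator Γ(X, W.1) Γ(C, W.1)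
    have hrad : A W ≤ Ideal.radical Ann := by
      rw [Ideal.span_le]
      rintro _ ⟨e, rfl⟩
      obtain ⟨T, hT⟩ := (hC W).fg_top
      have h1 : ∀ c : Γ(C, W.1), ∃ N : ℕ, a W e ^ N • c = 0 := fun c => by
        refine (QCoh.Localizing.localizes_of_isAffineOpen C W.2 (a W e)).sep c
          (Modules.Support.eq_zero_of_germ_eq_zero _ fun x hx _ => hCU x (hσ x ?_) _)
        intro v
        have hxW : x ∈ W.1 := X.basicOpen_le _ hx
        obtain ⟨V, hxV, r, rfl⟩ := TopCat.Presheaf.exists_germ_eq (Coh.structureModule X).presheaf v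
        obtain ⟨u', hu'⟩ := (X.mem_basicOpen (a W e) x hxW).1 hx
        refine ⟨(X.presheaf.germ V x hxV r * u'⁻¹.1) • gm hxW e, ?_⟩
        rw [map_smul, stalkMapₗ_germ]
        change _ • gm hxW (show Γ(Coh.structureModule X, W.1) from a W e) = _
        rw [TensorMod.Gen.smul_one_eq (a W e), gm_smul, ← mul_smul, ← hu', mul_assoc,
          Units.inv_mul, mul_one]
        refine Eq.trans ?_ (congrArg (gm hxV) (TensorMod.Gen.smul_one_eq r).symm)
        refine Eq.trans ?_ (gm_smul hxV (show Γ(X, V) from r) (one X V)).symm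
        refine congrArg (X.presheaf.germ V x hxV r • ·) ?_
        refine ((gm_rs (inf_le_left : W.1 ⊓ V ≤ W.1) ⟨hxW, hxV⟩ _).symm.trans ?_).trans
          (gm_rs (inf_le_right : W.1 ⊓ V ≤ V) ⟨hxW, hxV⟩ _)
        exact congrArg (gm _) ((map_one (X.presheaf.map _).hom).trans (map_one (X.presheaf.map _).hom).symm)
      choose N hN using h1
      refine ⟨T.sup N, Module.mem_annihilator.2 fun c => ?_⟩
      induction (hT.ge (Submodule.mem_top (x := c))) using Submodule.span_induction with
      | mem y hy =>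
        obtain ⟨d, hd⟩ := Nat.exists_eq_add_of_le (Finset.le_sup (f := N) hy)
        rw [hd, add_comm, pow_add, mul_smul, hN y, smul_zero]
      | zero => rw [smul_zero]
      | add y z _ _ hy hz => rw [smul_add, hy, hz, add_zero]
      | smul r y _ hy => rw [smul_comm, hy, smul_zero]
    obtain ⟨m, hm⟩ := Ideal.exists_pow_le_of_le_radical_of_fg hrad (hA W)
    exact ⟨m, fun r hr => Module.mem_annihilator.1 (hm hr)⟩
  choose m hm using hkill
  obtain ⟨s, hs, hcov⟩ := isCompact_and_isOpen_iff_finite_and_eq_biUnion_affineOpens.mp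
    (⟨isCompact_univ, isOpen_univ⟩ : IsCompact (Set.univ : Set X) ∧ IsOpen (Set.univ : Set X))
  refine ⟨hs.toFinset.sup m, Modules.Stalk.hom_ext_stalk fun x => ?_⟩
  obtain ⟨W, hW, hxW⟩ := Set.mem_iUnion₂.mp (hcov ▸ Set.mem_univ x)
  set n := hs.toFinset.sup m with hn
  let Ax : Ideal (X.presheaf.stalk x) := (A W).map (X.presheaf.germ W.1 x hxW).hom
  let v₁ : (Coh.structureModule X).presheaf.stalk x := gm (show x ∈ (⊤ : X.Opens) from trivial) (one X ⊤)
  let q := LinearMap.toSpanSingleton (X.presheaf.stalk x) _ v₁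
  have hone : ∀ {V : X.Opens} (hxV : x ∈ V), gm hxV (one X V) = v₁ := fun {V} hxV => by
    refine Eq.trans (congrArg (gm hxV) ?_) (gm_rs (le_top : V ≤ ⊤) hxV _)
    exact (map_one (X.presheaf.map (homOfLE (le_top : V ≤ ⊤)).op).hom).symm
  have hrange : ∀ k, LinearMap.range (stalkMapₗ (pw σ k).2 x) ≤ Submodule.map q (Ax ^ k) := by
    intro k
    induction k with
    | zero =>
      rintro _ ⟨v, rfl⟩
      change (Coh.structureModule X).presheaf.stalk x at v
      obtain ⟨V, hxV, r, rfl⟩ := TopCat.Presheaf.exists_germ_eq (Coh.structureModule X).presheaf v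
      refine ⟨X.presheaf.germ V x hxV r, by simp, ?_⟩
      change X.presheaf.germ V x hxV r • v₁ = stalkMapₗ (𝟙 (Coh.structureModule X)) x _
      rw [stalkMapₗ_id, LinearMap.id_apply, ← hone hxV]
      exact (gm_smul hxV (show Γ(X, V) from r) (one X V)).symm.trans
        (congrArg (gm hxV) (TensorMod.Gen.smul_one_eq r).symm)
    | succ k ih =>
      rw [pow_succ']
      refine range_mul_le σ (pw σ k).2 (show x ∈ (⊤ : X.Opens) from trivial) Ax (Ax ^ k) ?_ ih
      rintro _ ⟨v, rfl⟩
      have hspan := CohBasics.Affine.germ_span_eq_top W.2 (Set.univ : Set Γ(E, W.1))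
        Submodule.span_univ hxW
      induction (hspan.ge (Submodule.mem_top (x := v))) using Submodule.span_induction with
      | mem y hy =>
        obtain ⟨t, -, rfl⟩ := hy
        refine ⟨_, Ideal.mem_map_of_mem _ (Ideal.subset_span ⟨t, rfl⟩), ?_⟩
        rw [stalkMapₗ_germ, LinearMap.toSpanSingleton_apply]
        refine Eq.trans (congrArg (_ • ·) (hone hxW).symm) ?_
        exact ((congrArg (gm hxW) (TensorMod.Gen.smul_one_eq (a W t))).trans (gm_smul hxW _ _)).symm
      | zero => rw [map_zero]; exact zero_mem _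
      | add y z _ _ hy hz => rw [map_add]; exact add_mem hy hz
      | smul r y _ hy => rw [map_smul]; exact Submodule.smul_mem _ r hy
  have hzero : ∀ b ∈ Ax ^ n, ∀ c : C.presheaf.stalk x, b • c = 0 := by
    intro b hb c
    have hspan := CohBasics.Affine.germ_span_eq_top W.2 (Set.univ : Set Γ(C, W.1))
      Submodule.span_univ hxW
    induction (hspan.ge (Submodule.mem_top (x := c))) using Submodule.span_induction with
    | mem y hy =>
      obtain ⟨t, -, rfl⟩ := hy
      rw [← Ideal.map_pow] at hb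
      induction hb using Submodule.span_induction with
      | mem z hz =>
        obtain ⟨r, hr, rfl⟩ := hz
        refine ((gm_smul hxW r t).symm.trans ?_)
        rw [hm W r (Ideal.pow_le_pow_right (Finset.le_sup (hs.mem_toFinset.2 hW)) hr) t, gm, map_zero]
      | zero => rw [zero_smul]
      | add y z _ _ hy hz => rw [add_smul, hy, hz, add_zero]
      | smul r y _ hy => rw [smul_eq_mul, mul_smul, hy, smul_zero]
    | zero => rw [smul_zero]
    | add y z _ _ hy hz => rw [smul_add, hy, hz, add_zero]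
    | smul r y _ hy => rw [smul_comm, hy, smul_zero]
  suffices h : stalkMapₗ (tmap (𝟙 C) (pw σ n).2) x = 0 by
    ext v
    exact (LinearMap.congr_fun h v).trans (LinearMap.congr_fun (stalkMapₗ_zero (M := _) (N := _) x) v).symm
  rw [← LinearMap.ker_eq_top]
  refine mem_of_tmul _ fun V hxV c e => ?_
  rw [LinearMap.mem_ker, stalkMapₗ_germ, ← TensorMod.Free.pairM_comp, Category.id_comp,
    TensorMod.Free.pairM_tmap]
  obtain ⟨b, hb, hbe⟩ := hrange n ⟨gm hxV e, rfl⟩
  obtain ⟨V', hxV', b', rfl⟩ := TopCat.Presheaf.exists_germ_eq X.presheaf b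
  obtain ⟨V'', hxV'', i, j, hbc⟩ := TopCat.Presheaf.germ_eq C.presheaf x
    (show x ∈ V ⊓ V' from ⟨hxV, hxV'⟩) (show x ∈ V ⊓ V' from ⟨hxV, hxV'⟩)
    (QCoh.Localizing.resR inf_le_right b' • rs C inf_le_left c) 0 (by
      rw [map_zero]
      refine (gm_smul _ _ _).trans ?_
      rw [TopCat.Presheaf.germ_res_apply]
      exact hzero _ hb _)
  obtain ⟨V3, hxV3, k, l, hse⟩ := TopCat.Presheaf.germ_eq (Coh.structureModule X).presheaf x
    (show x ∈ V'' from hxV'') (show x ∈ V'' from hxV'')
    (rs _ (i.le.trans inf_le_left) ((pw σ n).2.app V e))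
    (QCoh.Localizing.resR i.le (QCoh.Localizing.resR inf_le_right b') • one X V'') (by
      refine ((gm_rs _ hxV'' _).trans ?_).trans (gm_smul hxV'' _ _).symm
      rw [TopCat.Presheaf.germ_res_apply, TopCat.Presheaf.germ_res_apply, hone]
      exact (stalkMapₗ_germ _ hxV e).symm.trans hbe.symm)
  obtain rfl : i = j := Subsingleton.elim _ _
  obtain rfl : k = l := Subsingleton.elim _ _
  have hse' : rs _ k.le (rs _ (i.le.trans inf_le_left) ((pw σ n).2.app V e)) =
      rs _ k.le (QCoh.Localizing.resR i.le (QCoh.Localizing.resR inf_le_right b') • one X V'') := hse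
  have hbc' : rs C i.le (QCoh.Localizing.resR inf_le_right b' • rs C inf_le_left c) = 0 :=
    hbc.trans (map_zero _)
  let r3 : Γ(X, V3) :=
    QCoh.Localizing.resR k.le (QCoh.Localizing.resR i.le (QCoh.Localizing.resR inf_le_right b'))
  have hle : V3 ≤ V := k.le.trans (i.le.trans inf_le_left)
  have h1 : rs _ hle ((pw σ n).2.app V e) = r3 • rs (Coh.structureModule X) k.le (one X V'') := by
    rw [← TensorMod.Dual.rs_rs _ (h := i.le.trans inf_le_left) (h' := k.le), hse']
    exact QCoh.Localizing.res_smul k.le _ _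
  have h2 : r3 • rs C hle c = 0 := by
    rw [← TensorMod.Dual.rs_rs _ (h := i.le.trans inf_le_left) (h' := k.le),
      ← TensorMod.Dual.rs_rs _ (h := (inf_le_left : V ⊓ V' ≤ V)) (h' := i.le)]
    refine (QCoh.Localizing.res_smul k.le _ _).symm.trans ?_
    change rs C k.le (_ • rs C i.le (rs C inf_le_left c)) = 0
    rw [show QCoh.Localizing.resR i.le (QCoh.Localizing.resR inf_le_right b') • rs C i.le
      (rs C inf_le_left c) = 0 from (QCoh.Localizing.res_smul i.le _ _).symm.trans hbc']
    exact map_zero _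
  show gm hxV _ = 0
  rw [← gm_rs hle hxV3, rs_pairM, h1, TensorMod.Pullback.pairM_smul_right,
    ← TensorMod.Pullback.pairM_smul_left]
  change gm hxV3 (pairM _ (r3 • rs C hle ((𝟙 C : C ⟶ C).app V c)) _) = 0
  rw [Scheme.Modules.Hom.id_app, ConcreteCategory.id_apply, h2]
  rw [show (0 : Γ(C, V3)) = (0 : Γ(X, V3)) • (0 : Γ(C, V3)) from (zero_smul _ _).symm,
    TensorMod.Pullback.pairM_smul_left, zero_smul, gm, map_zero]

end

end Groth.Agent.Lib.ResDescend36.Boundary
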