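import Groth.Agent.Lib.ResDescend36.Boundary
import Groth.Agent.Lib.DerivedOX.Calculus

/-!
# A bundle surjecting onto a finite type module over the locus of a functional
-/

set_option autoImplicit false
set_option linter.style.haveILetI false
universe u

open CategoryTheory CategoryTheory.Limits AlgebraicGeometry Opposite TopologicalSpace

namespace Groth.Agent.Lib.ResDescend36.Boundary2

open Groth.Agent.Lib Groth.Agent.Lib.Modules.StalkModule Groth.Agent.Lib.Modules.SubStalk
open Groth.Agent.Lib.ResDescend36.Boundary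
open Groth.Agent.Lib.Ample.GG (gm gm_rs)
open Groth.Agent.Lib.TensorMod.Basic (tmap)

noncomputable section

variable {X : Scheme.{u}}

lemma isPullback_stalk {A B C : X.Modules} (f : A ⟶ C) (g : B ⟶ C) (x : X) :
    IsPullback ((stalkModFunctor X x ⋙ forget _).map (pullback.fst f g))
      ((stalkModFunctor X x ⋙ forget _).map (pullback.snd f g))
      ((stalkModFunctor X x ⋙ forget _).map f) ((stalkModFunctor X x ⋙ forget _).map g) :=
  (IsPullback.of_hasPullback f g).map _

lemma surjective_fst {A B C : X.Modules} (f : A ⟶ C) (g : B ⟶ C) {x : X}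
    (hg : Function.Surjective (stalkMapₗ g x)) :
    Function.Surjective (stalkMapₗ (pullback.fst f g) x) := fun a => by
  obtain ⟨b, hb⟩ := hg (stalkMapₗ f x a)
  obtain ⟨z, hz, -⟩ := Types.exists_of_isPullback (isPullback_stalk f g x) a b hb.symm
  exact ⟨z, hz⟩

lemma surjective_snd {A B C : X.Modules} (f : A ⟶ C) (g : B ⟶ C) {x : X}
    (hf : Function.Surjective (stalkMapₗ f x)) :
    Function.Surjective (stalkMapₗ (pullback.snd f g) x) := fun b => by
  obtain ⟨a, ha⟩ := hf (stalkMapₗ g x b)
  obtain ⟨z, -, hz⟩ := Types.exists_of_isPullback (isPullback_stalk f g x) a b ha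
  exact ⟨z, hz⟩

lemma injective_fst {A B C : X.Modules} (f : A ⟶ C) (g : B ⟶ C) {x : X}
    (hg : Function.Injective (stalkMapₗ g x)) :
    Function.Injective (stalkMapₗ (pullback.fst f g) x) := fun z z' h => by
  refine Types.ext_of_isPullback (isPullback_stalk f g x) h (hg ?_)
  have h1 : ∀ w, stalkMapₗ g x (stalkMapₗ (pullback.snd f g) x w) =
      stalkMapₗ f x (stalkMapₗ (pullback.fst f g) x w) := fun w => by
    rw [← LinearMap.comp_apply, ← stalkMapₗ_comp, ← pullback.condition, stalkMapₗ_comp,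
      LinearMap.comp_apply]
  exact (h1 z).trans ((congrArg (stalkMapₗ f x) h).trans (h1 z').symm)

lemma isQCoh_pullback {A B C : X.Modules} [A.IsQuasicoherent] [B.IsQuasicoherent] [C.IsQuasicoherent]
    (f : A ⟶ C) (g : B ⟶ C) : (pullback f g).IsQuasicoherent := by
  haveI : (A ⊞ B).IsQuasicoherent := QCoh.Closure.isQCoh_biprod
  exact (SheafOfModules.isQuasicoherent.{u} X.ringCatSheaf).prop_of_iso
    ((Abelian.PullbackToBiproductIsKernel.isLimitPullbackToBiproduct f g).conePointUniqueUpToIso
      (limit.isLimit _)).symm (QCoh.Closure.isQCoh_kernel (biprod.desc f (-g)))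

/-- Direct image of the restriction to an open, and the unit. -/
lemma bijective_unit_stalk (U : X.Opens) (M : X.Modules) {x : X} (hx : x ∈ U) :
    Function.Bijective (stalkMapₗ ((Scheme.Modules.restrictAdjunction U.ι).unit.app M) x) := by
  set η := (Scheme.Modules.restrictAdjunction U.ι).unit.app M
  have hη : ∀ {V : X.Opens}, V ≤ U → Function.Bijective (η.app V) := fun {V} hV => by
    simp only [η, Scheme.Modules.restrictAdjunction_unit_app_app]
    have e : U.ι ''ᵁ (U.ι ⁻¹ᵁ V) = V := by
      rw [U.ι.image_preimage_eq_opensRange_inf, Scheme.Opens.opensRange_ι, inf_eq_right.2 hV]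
    have key : ∀ {A B : X.Opens} (h : A ≤ B), A = B → Function.Bijective (M.presheaf.map (homOfLE h).op) := by
      intro A B h e
      subst e
      rw [Subsingleton.elim (homOfLE h) (𝟙 A), op_id, M.presheaf.map_id]
      exact Function.bijective_id
    exact key _ e
  constructor
  · intro v w hvw
    obtain ⟨V, hxV, s, rfl⟩ := TopCat.Presheaf.exists_germ_eq M.presheaf v
    obtain ⟨V', hxV', t, rfl⟩ := TopCat.Presheaf.exists_germ_eq M.presheaf w
    erw [stalkMapₗ_germ, stalkMapₗ_germ] at hvw
    obtain ⟨W, hxW, i, j, hW⟩ := TopCat.Presheaf.germ_eq _ x hxV hxV' _ _ hvw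
    have h1 := (QCoh.Localizing.res_app η i.le s).symm
    have h2 := (QCoh.Localizing.res_app η j.le t).symm
    refine ((gm_rs i.le hxW s).symm.trans ?_).trans (gm_rs j.le hxW t)
    refine ((gm_rs (inf_le_left : W ⊓ U ≤ W) ⟨hxW, hx⟩ _).symm.trans ?_).trans
      (gm_rs (inf_le_left : W ⊓ U ≤ W) ⟨hxW, hx⟩ _)
    refine congrArg (gm _) ((hη inf_le_right).1 ?_)
    refine ((QCoh.Localizing.res_app η inf_le_left _).symm.trans ?_).trans (QCoh.Localizing.res_app η inf_le_left _)
    exact congrArg _ ((h1.symm ▸ hW ▸ h2.symm :))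
  · intro v
    obtain ⟨V, hxV, s, rfl⟩ := TopCat.Presheaf.exists_germ_eq _ v
    obtain ⟨t, ht⟩ := (hη (inf_le_right : V ⊓ U ≤ U)).2 (TensorMod.Dual.rs _ inf_le_left s)
    refine ⟨gm (show x ∈ V ⊓ U from ⟨hxV, hx⟩) t, ?_⟩
    rw [stalkMapₗ_germ, ht]
    exact gm_rs _ _ _

/-- If `σ : E ⟶ O` is surjective exactly on the affine open `U`, a finite type quasi-coherent
module receives a map from a finite locally free module which is surjective over `U`. -/
theorem exists_surjective_on' [CompactSpace X] [QuasiSeparatedSpace X] {U : X.Opens} (hU : IsAffineOpen U)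
    {E : X.Modules} (hE : FlatMod.IsFinLocFree E) (σ : E ⟶ Coh.structureModule X)
    (hσ : ∀ x, Function.Surjective (stalkMapₗ σ x) ↔ x ∈ U) (F : X.Modules) (hF : Coh.IsCoh F) :
    ∃ (k n m : ℕ) (π : CohB1.tensorMod (CohB1.tensorMod (FlatMod.freeMod X k) (pw σ n).1) (pw σ m).1 ⟶ F),
      ∀ x ∈ U, Function.Surjective (stalkMapₗ π x) := by
  classical
  haveI : F.IsQuasicoherent := hF.1
  haveI : QuasiCompact U.ι := by
    haveI : CompactSpace (U : Scheme.{u}) := isCompact_iff_compactSpace.mp hU.isCompact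
    exact QuasiCompact.of_comp U.ι (terminal.from X)
  let N := (Scheme.Modules.pushforward U.ι).obj ((Scheme.Modules.restrictFunctor U.ι).obj F)
  haveI : ((Scheme.Modules.restrictFunctor U.ι).obj F).IsQuasicoherent := inferInstance
  haveI : N.IsQuasicoherent := QCoh.Pushforward.isQCoh_pushforward U.ι
  let η : F ⟶ N := (Scheme.Modules.restrictAdjunction U.ι).unit.app F
  haveI := CohBasics.Closure.finite_sections (M := F) hF hU
  obtain ⟨k, g₀, hg₀⟩ := Module.Finite.exists_fin (R := Γ(X, U)) (M := Γ(F, U))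
  have htopU : U.ι ''ᵁ (U.ι ⁻¹ᵁ ⊤) ≤ U := (U.ι.image_preimage_eq_opensRange_inf _).le.trans (inf_le_left.trans U.opensRange_ι.le)
  let s : Fin k → Γ(N, ⊤) := fun i => F.presheaf.map (homOfLE htopU).op (g₀ i)
  let fr := FlatMod.freeMod X k
  have hfrLF : FlatMod.IsFinLocFree fr :=
    TensorMod.LocFree.of_rank (TensorMod.LocFree.isFinLocFree_freeMod X k)
  haveI : fr.IsQuasicoherent := Modules.AffineSections.isQCoh_of_isFinLocFree hfrLF
  let ψ : fr ⟶ N := Modules.Free.freeHom s
  have hψ : ∀ x ∈ U, Function.Surjective (stalkMapₗ ψ x) := fun x hx => by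
    rw [← LinearMap.range_eq_top, eq_top_iff]
    rintro v -
    obtain ⟨w, rfl⟩ := (bijective_unit_stalk U F hx).2 v
    have hsp := CohBasics.Affine.germ_span_eq_top hU _ hg₀ hx
    induction (hsp.ge (Submodule.mem_top (x := w))) using Submodule.span_induction with
    | mem y hy =>
      obtain ⟨_, ⟨i, rfl⟩, rfl⟩ := hy
      refine ⟨gm (show x ∈ (⊤ : X.Opens) from trivial) (Modules.Free.gen X i), ?_⟩
      refine (stalkMapₗ_germ ψ _ _).trans (Eq.trans ?_ (stalkMapₗ_germ η hx _).symm)
      rw [Modules.Free.freeHom_app_gen]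
      refine (gm_rs (le_top : U ≤ ⊤) hx (s i)).symm.trans (congrArg (gm hx) ?_)
      simp only [η, Scheme.Modules.restrictAdjunction_unit_app_app]
      refine (congr($(F.presheaf.map_comp (homOfLE htopU).op
        (homOfLE (U.ι.image_mono (U.ι.preimage_mono (le_top : U ≤ ⊤)))).op) (g₀ i))).symm.trans ?_
      congr 1
    | zero => rw [map_zero]; exact zero_mem _
    | add y z _ _ hy hz => rw [map_add]; exact add_mem hy hz
    | smul r y _ hy => rw [map_smul]; exact Submodule.smul_mem _ r hy
  let P := pullback ψ η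
  haveI : P.IsQuasicoherent := isQCoh_pullback ψ η
  let g : P ⟶ fr := pullback.fst ψ η
  have hgU : ∀ x ∈ U, Function.Surjective (stalkMapₗ g x) ∧ Function.Injective (stalkMapₗ g x) :=
    fun x hx => ⟨surjective_fst ψ η (bijective_unit_stalk U F hx).2,
      injective_fst ψ η (bijective_unit_stalk U F hx).1⟩
  let C := cokernel g
  haveI : C.IsQuasicoherent := QCoh.Closure.isQCoh_cokernel g
  have hCfin : ∀ W : X.affineOpens, Module.Finite Γ(X, W.1) Γ(C, W.1) := fun W => by
    haveI := (Modules.AffineSections.finite_projective_sections hfrLF W.2).1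
    exact Module.Finite.of_surjective
      ({ toFun := (cokernel.π g).app W.1
         map_add' := map_add _
         map_smul' := fun r y => Scheme.Modules.Hom.app_smul (cokernel.π g) r y } :
        Γ(fr, W.1) →ₗ[Γ(X, W.1)] Γ(C, W.1))
      (QCoh.Closure.sections_surjective_of_epi (cokernel.π g) W.2)
  have hCU : ∀ x ∈ U, ∀ v : C.presheaf.stalk x, v = 0 := fun x hx v => by
    obtain ⟨w, rfl⟩ := (Modules.Stalk.epi_iff_stalk_surjective (cokernel.π g)).1 inferInstance x v
    obtain ⟨p, rfl⟩ := (hgU x hx).1 w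
    change stalkMapₗ (cokernel.π g) x (stalkMapₗ g x p) = 0
    rw [← LinearMap.comp_apply, ← stalkMapₗ_comp, cokernel.condition, stalkMapₗ_zero, LinearMap.zero_apply]
  obtain ⟨n, hn⟩ := exists_tmap_eq_zero U hE σ (fun x => (hσ x).1) C hCfin hCU
  let B := CohB1.tensorMod fr (pw σ n).1
  have hB : FlatMod.IsFinLocFree B :=
    TensorMod.LocFree.isFinLocFree_tensorMod hfrLF (isFinLocFree_pw hE σ n)
  haveI : B.IsQuasicoherent := Modules.AffineSections.isQCoh_of_isFinLocFree hB
  have hpw : ∀ m, ∀ x ∈ U, Function.Surjective (stalkMapₗ (pw σ m).2 x) := by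
    intro m x hx
    induction m with
    | zero =>
      change Function.Surjective (stalkMapₗ (𝟙 (Coh.structureModule X)) x)
      rw [stalkMapₗ_id]; exact Function.surjective_id
    | succ m ih =>
      change Function.Surjective (stalkMapₗ (tmap σ (𝟙 _) ≫ _ ≫ _) x)
      rw [stalkMapₗ_comp, stalkMapₗ_comp, LinearMap.coe_comp, LinearMap.coe_comp]
      exact (ih.comp ((Modules.Stalk.epi_iff_stalk_surjective
        (TensorMod.Basic.leftUnit (pw σ m).1).hom).1 inferInstance x)).comp
        (Family.surjective_tmap σ _ ((hσ x).2 hx))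
  have hright : ∀ (M : X.Modules) (m : ℕ) (x : X), x ∈ U →
      Function.Surjective (stalkMapₗ (tmap (𝟙 M) (pw σ m).2 ≫ (TensorMod.Basic.rightUnit M).hom) x) := by
    intro M m x hx
    have e : tmap (𝟙 M) (pw σ m).2 = (TensorMod.Basic.comm M (pw σ m).1).hom ≫ tmap (pw σ m).2 (𝟙 M) ≫
        (TensorMod.Basic.comm M (Coh.structureModule X)).inv := by
      rw [← Category.assoc, Iso.eq_comp_inv, TensorMod.Basic.comm_natural]
    have hiso : ∀ {P R : X.Modules} (f : P ⟶ R) [IsIso f], Function.Surjective (stalkMapₗ f x) :=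
      fun f _ => (Modules.Stalk.epi_iff_stalk_surjective f).1 inferInstance x
    rw [e, stalkMapₗ_comp, stalkMapₗ_comp, stalkMapₗ_comp, LinearMap.coe_comp, LinearMap.coe_comp,
      LinearMap.coe_comp]
    exact (hiso _).comp (((hiso _).comp (Family.surjective_tmap _ M (hpw m x hx))).comp (hiso _))
  let u : B ⟶ fr := tmap (𝟙 fr) (pw σ n).2 ≫ (TensorMod.Basic.rightUnit fr).hom
  have hu0 : u ≫ cokernel.π g = 0 := by
    simp only [u, Category.assoc, ← TensorMod.Basic.rightUnit_natural (cokernel.π g)]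
    rw [← Category.assoc, ← TensorMod.Basic.tmap_comp, Category.id_comp, Category.comp_id,
      show tmap (cokernel.π g) (pw σ n).2 = tmap (cokernel.π g) (𝟙 _) ≫ tmap (𝟙 C) (pw σ n).2 by
        rw [← TensorMod.Basic.tmap_comp, Category.comp_id, Category.id_comp],
      hn, comp_zero, zero_comp]
  let u' : B ⟶ Abelian.image g := kernel.lift _ u hu0
  haveI : (Abelian.image g).IsQuasicoherent := QCoh.Closure.isQCoh_kernel (cokernel.π g)
  let e := Abelian.factorThruImage g
  let Q := pullback u' e
  haveI : Q.IsQuasicoherent := isQCoh_pullback u' e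
  let p : Q ⟶ B := pullback.fst u' e
  haveI : Epi p := inferInstanceAs (Epi (pullback.fst u' e))
  -- a finite type piece of `Q` onto `B`
  have hfin : ∀ W : X.affineOpens, ∃ (r : ℕ) (t : Fin r → Γ(Q, W.1)),
      Submodule.span Γ(X, W.1) (Set.range fun i => p.app W.1 (t i)) = ⊤ := fun W => by
    haveI := (Modules.AffineSections.finite_projective_sections hB W.2).1
    obtain ⟨r, b, hb⟩ := Module.Finite.exists_fin (R := Γ(X, W.1)) (M := Γ(B, W.1))
    choose t ht using fun i => QCoh.Closure.sections_surjective_of_epi p W.2 (b i)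
    exact ⟨r, t, by rw [funext ht]; exact hb⟩
  choose r t ht using hfin
  obtain ⟨sW, hsW, hcov⟩ := isCompact_and_isOpen_iff_finite_and_eq_biUnion_affineOpens.mp
    (⟨isCompact_univ, isOpen_univ⟩ : IsCompact (Set.univ : Set X) ∧ IsOpen (Set.univ : Set X))
  obtain ⟨S, hS, hmem⟩ := ResDescend36.Affine.exists_family_finset Q hsW.toFinset r t
  let Q' := subMod S
  haveI : Q'.IsQuasicoherent := isQCoh_subMod hS
  let p' : Q' ⟶ B := ι S ≫ p
  haveI : Epi p' := by
    refine (Modules.Stalk.epi_iff_stalk_surjective p').2 fun y (v : B.presheaf.stalk y) => ?_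
    obtain ⟨W, hW, hyW⟩ := Set.mem_iUnion₂.mp (hcov ▸ Set.mem_univ y)
    have htop := CohBasics.Affine.germ_span_eq_top W.2 _ (ht W) hyW
    suffices hr : Submodule.span (X.presheaf.stalk y)
        (B.presheaf.germ W.1 y hyW '' Set.range fun i => p.app W.1 (t W i)) ≤
          LinearMap.range (stalkMapₗ p' y) from hr (htop.ge (Submodule.mem_top (x := v)))
    rw [Submodule.span_le]
    rintro _ ⟨_, ⟨i, rfl⟩, rfl⟩
    obtain ⟨y', hy'⟩ := exists_ι_app (hmem W (hsW.mem_toFinset.2 hW) i)
    refine ⟨Q'.presheaf.germ W.1 y hyW y', (stalkMapₗ_germ p' hyW _).trans ?_⟩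
    exact congrArg (gm hyW) (congrArg (p.app W.1) hy')
  let K := kernel p'
  haveI : K.IsQuasicoherent := QCoh.Closure.isQCoh_kernel p'
  have hKfin : ∀ W : X.affineOpens, Module.Finite Γ(X, W.1) Γ(K, W.1) := fun W => by
    haveI := (Modules.AffineSections.finite_projective_sections hB W.2).2
    haveI : Module.Finite Γ(X, W.1) Γ(Q', W.1) :=
      CohBasics.Closure.finite_sections (M := Q') ⟨isQCoh_subMod hS, isFT_subMod hS⟩ W.2
    let pl : Γ(Q', W.1) →ₗ[Γ(X, W.1)] Γ(B, W.1) :=
      { toFun := p'.app W.1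
        map_add' := map_add _
        map_smul' := fun r y => Scheme.Modules.Hom.app_smul p' r y }
    let kl : Γ(K, W.1) →ₗ[Γ(X, W.1)] Γ(Q', W.1) :=
      { toFun := (kernel.ι p').app W.1
        map_add' := map_add _
        map_smul' := fun r y => Scheme.Modules.Hom.app_smul (kernel.ι p') r y }
    obtain ⟨sec, hsec⟩ := Module.projective_lifting_property pl LinearMap.id
      (QCoh.Closure.sections_surjective_of_epi p' W.2)
    have hex : ∀ q, pl q = 0 → ∃ z, kl z = q := fun q hq =>
      QCoh.Closure.sections_exact (S := ShortComplex.mk (kernel.ι p') p' (kernel.condition p'))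
        (ShortComplex.exact_of_f_is_kernel _ (kernelIsKernel p')) W.1 q hq
    have hker : LinearMap.range kl = LinearMap.ker pl := le_antisymm (by
        rintro _ ⟨z, rfl⟩
        exact QCoh.Closure.sections_comp (S := ShortComplex.mk (kernel.ι p') p' (kernel.condition p')) W.1 z)
      fun q hq => hex q hq
    haveI : Module.Finite Γ(X, W.1) (LinearMap.ker pl) := by
      refine Module.Finite.of_surjective ((LinearMap.id - sec ∘ₗ pl).codRestrict (LinearMap.ker pl)
        fun q => ?_) fun q => ⟨q.1, Subtype.ext ?_⟩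
      · change q.1 - sec (pl q.1) = q.1
        rw [q.2, map_zero, sub_zero]
      · have := LinearMap.congr_fun hsec (pl q)
        rw [LinearMap.mem_ker, LinearMap.sub_apply, LinearMap.id_apply, LinearMap.comp_apply, map_sub]
        exact sub_eq_zero.2 this.symm
    haveI : Module.Finite Γ(X, W.1) (LinearMap.range kl) := hker.symm ▸ inferInstance
    exact Module.Finite.equiv (LinearEquiv.ofInjective kl
      (QCoh.Closure.sections_injective_of_mono (kernel.ι p') W.1)).symm
  have heU : ∀ x ∈ U, Function.Injective (stalkMapₗ e x) := fun x hx => by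
    intro v w h
    refine (hgU x hx).2 ?_
    have hg : g = e ≫ Abelian.image.ι g := (Abelian.image.fac g).symm
    rw [hg, stalkMapₗ_comp, LinearMap.comp_apply, LinearMap.comp_apply, h]
  have hKU : ∀ x ∈ U, ∀ v : K.presheaf.stalk x, v = 0 := fun x hx v => by
    have h1 : stalkMapₗ p x (stalkMapₗ (ι S) x (stalkMapₗ (kernel.ι p') x v)) = 0 := by
      rw [← LinearMap.comp_apply, ← stalkMapₗ_comp, ← LinearMap.comp_apply, ← stalkMapₗ_comp]
      change stalkMapₗ (kernel.ι p' ≫ p') x v = 0
      rw [kernel.condition, stalkMapₗ_zero, LinearMap.zero_apply]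
    have h2 := injective_fst u' e (heU x hx) (h1.trans (map_zero _).symm)
    have h3 := (Modules.Stalk.mono_iff_stalk_injective (ι S)).1 inferInstance x (h2.trans (map_zero _).symm)
    exact (Modules.Stalk.mono_iff_stalk_injective (kernel.ι p')).1 inferInstance x (h3.trans (map_zero _).symm)
  obtain ⟨m, hm⟩ := exists_tmap_eq_zero U hE σ (fun x => (hσ x).1) K hKfin hKU
  let μ : CohB1.tensorMod Q' (pw σ m).1 ⟶ Q' :=
    tmap (𝟙 Q') (pw σ m).2 ≫ (TensorMod.Basic.rightUnit Q').hom
  let T := TensorMod.Basic.tensorBy (pw σ m).1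
  have hμ : T.map (kernel.ι p') ≫ μ = 0 := by
    change tmap (kernel.ι p') (𝟙 _) ≫ μ = 0
    simp only [μ]
    rw [← Category.assoc, ← TensorMod.Basic.tmap_comp, Category.comp_id, Category.id_comp,
      show tmap (kernel.ι p') (pw σ m).2 = tmap (𝟙 K) (pw σ m).2 ≫ tmap (kernel.ι p') (𝟙 _) by
        rw [← TensorMod.Basic.tmap_comp, Category.comp_id, Category.id_comp],
      hm, zero_comp, zero_comp]
  haveI : PreservesFiniteColimits T := PreservesColimitsOfSize.preservesFiniteColimits _
  have hcok := CokernelCofork.mapIsColimit _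
    ((ShortComplex.exact_of_f_is_kernel (ShortComplex.mk (kernel.ι p') p' (kernel.condition p'))
      (kernelIsKernel p')).gIsCokernel) T
  let lam : T.obj B ⟶ Q' := hcok.desc (CokernelCofork.ofπ μ hμ)
  have hlam : T.map p' ≫ lam = μ := hcok.fac (CokernelCofork.ofπ μ hμ) WalkingParallelPair.one
  refine ⟨k, n, m, lam ≫ ι S ≫ pullback.snd u' e ≫ pullback.snd ψ η, fun x hx => ?_⟩
  have hlamx : Function.Surjective (stalkMapₗ lam x) := by
    refine Family.surjective_of_comp (T.map p') lam ?_
    rw [hlam]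
    exact hright Q' m x hx
  have hιS : Function.Surjective (stalkMapₗ (ι S) x) := fun q => by
    obtain ⟨y, hy⟩ := (Modules.Stalk.epi_iff_stalk_surjective p').1 inferInstance x (stalkMapₗ p x q)
    refine ⟨y, injective_fst u' e (heU x hx) ?_⟩
    exact (LinearMap.congr_fun (stalkMapₗ_comp (ι S) p x) y).symm.trans hy
  have hu'x : Function.Surjective (stalkMapₗ u' x) := fun v => by
    obtain ⟨w, hw⟩ := hright fr n x hx (stalkMapₗ (Abelian.image.ι g) x v)
    refine ⟨w, (Modules.Stalk.mono_iff_stalk_injective (Abelian.image.ι g)).1 inferInstance x ?_⟩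
    change stalkMapₗ (Abelian.image.ι g) x (stalkMapₗ u' x w) = stalkMapₗ (Abelian.image.ι g) x v
    rw [← LinearMap.comp_apply, ← stalkMapₗ_comp, kernel.lift_ι]
    exact hw
  rw [stalkMapₗ_comp, stalkMapₗ_comp, stalkMapₗ_comp, LinearMap.coe_comp, LinearMap.coe_comp,
    LinearMap.coe_comp]
  exact (((surjective_snd ψ η (hψ x hx)).comp (surjective_snd u' e hu'x)).comp hιS).comp hlamx

/-- If `σ : E ⟶ O` is surjective exactly on the affine open `U`, a finite type quasi-coherent
module receives a map from a finite locally free module which is surjective over `U`. -/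
theorem exists_surjective_on [CompactSpace X] [QuasiSeparatedSpace X] {U : X.Opens} (hU : IsAffineOpen U)
    {E : X.Modules} (hE : FlatMod.IsFinLocFree E) (σ : E ⟶ Coh.structureModule X)
    (hσ : ∀ x, Function.Surjective (stalkMapₗ σ x) ↔ x ∈ U) (F : X.Modules) (hF : Coh.IsCoh F) :
    ∃ (B : X.Modules) (π : B ⟶ F), FlatMod.IsFinLocFree B ∧
      ∀ x ∈ U, Function.Surjective (stalkMapₗ π x) := by
  obtain ⟨k, n, m, π, hπ⟩ := exists_surjective_on' hU hE σ hσ F hF
  exact ⟨_, π, TensorMod.LocFree.isFinLocFree_tensorMod (TensorMod.LocFree.isFinLocFree_tensorMod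
    (TensorMod.LocFree.of_rank (TensorMod.LocFree.isFinLocFree_freeMod X k)) (isFinLocFree_pw hE σ n))
    (isFinLocFree_pw hE σ m), hπ⟩

end

end Groth.Agent.Lib.ResDescend36.Boundary2
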