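import Groth.Agent.Lib.ResDescend36.Proj
import Groth.Agent.Lib.Modules.DualAdj
import Groth.Agent.Lib.QCoh.Sections
import Groth.Agent.Lib.Modules.SupportOps
import Groth.Agent.H95.LefFEt.Bidual
import Groth.Agent.Lib.TensorMod.LocFree
import Groth.Prelude.Def_PerfAux
import Groth.Prelude.Def_Mor2

/-!
# The resolution property descends along finite locally free surjections
-/

set_option autoImplicit false
universe u

open CategoryTheory CategoryTheory.Limits AlgebraicGeometry Opposite TopologicalSpace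

namespace Groth.Agent.Lib.ResDescend36.Main

open Groth.Agent.Lib Groth.Agent.Lib.Modules Groth.Agent.Lib.Modules.DualBasis
open Groth.Agent.Lib.TensorMod.Dual (rs rf DualSec dual dualRes)
open Groth.Agent.Lib.TensorMod.Basic (tmap tensorIso)
open Groth.Agent.Lib.Modules.TensorSec
open Groth.Agent.H81.PushLocFree (push)

noncomputable section

variable {X Y : Scheme.{u}} (f : X ⟶ Y)

/-- Near a point in the image some form on `f_* O` is one at the unit section. -/
theorem exists_form (hA : HasDBases (push f)) (x : X) :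
    ∃ (W : Y.Opens) (φ : DualSec (push f) W), f x ∈ W ∧
      φ.app le_rfl (show Γ(push f, W) from (1 : Γ(X, f ⁻¹ᵁ W))) = 1 := by
  obtain ⟨U, n, hy, ⟨b⟩⟩ := hA (f x)
  let one : Γ(push f, U) := (show Γ(push f, U) from (1 : Γ(X, f ⁻¹ᵁ U)))
  let c : Fin n → Γ(Y, U) := fun i => (b.f i).app le_rfl one
  have hc : ∑ i, f.app U (c i) * (show Γ(X, f ⁻¹ᵁ U) from b.e i) = 1 := by
    refine Eq.trans ?_ (b.sum_eq U le_rfl one)
    refine Finset.sum_congr rfl fun i _ => ?_
    rw [TensorMod.Dual.rs_self]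
    rfl
  obtain ⟨i, hi⟩ : ∃ i, f x ∈ Y.basicOpen (c i) := by
    by_contra hne
    push Not at hne
    have hnu : ∀ i, ¬ IsUnit (X.presheaf.germ (f ⁻¹ᵁ U) x hy (f.app U (c i))) := fun i hu => by
      refine hne i ?_
      have : x ∈ X.basicOpen (f.app U (c i)) := (X.mem_basicOpen _ x hy).2 hu
      rw [← Scheme.preimage_basicOpen] at this
      exact this
    have h1 : (1 : X.presheaf.stalk x) ∈ IsLocalRing.maximalIdeal (X.presheaf.stalk x) := by
      rw [← map_one (X.presheaf.germ (f ⁻¹ᵁ U) x hy).hom, ← hc, map_sum]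
      refine Ideal.sum_mem _ fun i _ => ?_
      rw [map_mul]
      exact Ideal.mul_mem_right _ _ (hnu i)
    exact (IsLocalRing.maximalIdeal.isMaximal _).ne_top ((Ideal.eq_top_iff_one _).2 h1)
  refine ⟨Y.basicOpen (c i), ?_⟩
  have hle : Y.basicOpen (c i) ≤ U := Y.basicOpen_le _
  obtain ⟨v, hv⟩ := isUnit_iff_exists_inv'.1
    (show IsUnit (rf hle (c i)) from RingedSpace.isUnit_res_basicOpen Y.toRingedSpace (c i))
  refine ⟨v • dualRes (push f) hle (b.f i), hi, ?_⟩
  rw [TensorMod.Dual.smul_app, TensorMod.Dual.rf_self, TensorMod.Dual.dualRes_app]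
  have hone : rs (push f) hle one = (show Γ(push f, Y.basicOpen (c i)) from (1 : Γ(X, f ⁻¹ᵁ Y.basicOpen (c i)))) :=
    map_one (X.presheaf.map _).hom
  rw [← hone, ← (b.f i).compat le_rfl hle one]
  exact hv

/-- The contraction `(f_* O)^∨ ⊗ (f_* O ⊗ F) ⟶ F` is an epimorphism for surjective `f`. -/
theorem epi_counit [Surjective f] (hA : HasDBases (push f)) (F : Y.Modules) :
    Epi (DualAdj.counit (push f) F) := by
  refine (Stalk.epi_iff_stalk_surjective _).2 fun y t => ?_
  obtain ⟨x, rfl⟩ := f.surjective y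
  obtain ⟨W, φ, hW, hφ⟩ := exists_form f hA x
  obtain ⟨V, hV, m, rfl⟩ := F.presheaf.germ_exist t
  let W' : Y.Opens := W ⊓ V
  let one : Γ(push f, W') := (show Γ(push f, W') from (1 : Γ(X, f ⁻¹ᵁ W')))
  let m' : Γ(F, W') := rs F inf_le_right m
  let u := tens (DualAdj.toSec (dualRes (push f) (inf_le_left : W' ≤ W) φ)) (tens one m')
  refine ⟨(CohB1.tensorMod (dual (push f)) (CohB1.tensorMod (push f) F)).presheaf.germ W' (f x) ⟨hW, hV⟩ u, ?_⟩
  have hone : rs (push f) (inf_le_left : W' ≤ W) (show Γ(push f, W) from (1 : Γ(X, f ⁻¹ᵁ W))) = one :=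
    map_one (X.presheaf.map _).hom
  have h1 : (DualAdj.counit (push f) F).app W' u = m' := by
    rw [DualAdj.counit_tens, contr_tens]
    show ((dualRes (push f) (inf_le_left : W' ≤ W) φ).app le_rfl one) • m' = m'
    rw [TensorMod.Dual.dualRes_app, ← hone, ← φ.compat le_rfl inf_le_left, hφ]
    have h2 : rf (inf_le_left : W' ≤ W) (1 : Γ(Y, W)) = 1 := map_one (Y.presheaf.map _).hom
    rw [h2, one_smul]
  refine Eq.trans ?_ (F.presheaf.germ_res_apply (homOfLE (inf_le_right : W' ≤ V)) (f x) ⟨hW, hV⟩ m)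
  refine Eq.trans ?_ (congrArg (F.presheaf.germ W' (f x) ⟨hW, hV⟩) h1)
  exact TopCat.Presheaf.stalkFunctor_map_germ_apply W' (f x) ⟨hW, hV⟩
    (DualAdj.counit (push f) F).mapPresheaf u

/-- The resolution property descends. -/
theorem hasResolutionProperty (hf : Mor2.IsFinLocFree f) [Surjective f]
    (hX : PerfAux.HasResolutionProperty X) : PerfAux.HasResolutionProperty Y := by
  obtain ⟨h1, h2, h3⟩ := hf
  intro F hFq hFt
  haveI : F.IsQuasicoherent := hFq
  have hpq : ((Scheme.Modules.pullback f).obj F).IsQuasicoherent := QCoh.Pullback.isQCoh_pullback f F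
  haveI : SheafOfModules.IsFiniteType (R := Y.ringCatSheaf) F := hFt
  obtain ⟨E, π, hE, hπ⟩ := hX ((Scheme.Modules.pullback f).obj F) hpq
    (SupportOps.isFT_pullback f F)
  haveI := AffineSections.isQCoh_of_isFinLocFree hE
  have hAf : FlatMod.IsFinLocFree (push f) := H81.PushLocFree.isFinLocFree_push f
  have hA := hasDBases_of_isFinLocFree hAf
  haveI := Proj.isIso_projMap f F
  haveI : Epi ((Scheme.Modules.pushforward f).map π) := QCoh.Sections.epi_pushforward_map f π
  let h := (Scheme.Modules.pushforward f).map π ≫ inv (Proj.projMap f F) ≫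
    (TensorMod.Basic.comm F (push f)).hom
  haveI : Epi h := epi_comp _ _
  haveI := DualAdj.tensorL_isLeftAdjoint' hA
  let g := tmap (𝟙 (dual (push f))) h
  haveI : Epi g := by
    have := (inferInstance : Epi ((DualAdj.tensorL (dual (push f))).map h))
    rw [DualAdj.tensorL_map] at this
    exact this
  haveI := epi_counit f hA F
  exact ⟨_, g ≫ DualAdj.counit (push f) F,
    TensorMod.LocFree.isFinLocFree_tensorMod (H95.LefFEt.Bidual.isFinLocFree_dual hAf)
      (Proj.isFinLocFree_pushforward f hE), epi_comp _ _⟩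

end

end Groth.Agent.Lib.ResDescend36.Main
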